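import Cfsg.Agent.J4.Srch

/-! Data for the coordinates. -/

set_option autoImplicit false
set_option maxRecDepth 1000000
set_option maxHeartbeats 0

namespace CF.J4
open CF.Comp CF.Dce

noncomputable def a0 : ℕ := (nat_lit 0xd72bd363cd146ffd95a81fc3aacfd88eec59)
noncomputable def b0 : ℕ := (nat_lit 0x51ff2508d046f5fae561ab353c014077f9aa)
noncomputable def u0 : ℕ := (nat_lit 0x8d74a981c42446acff269397f0050077f9aa)
noncomputable def x0 : ℕ := (nat_lit 0x72e91973692d9eae55217129b2963e002003)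
noncomputable def p0 : ℕ := (nat_lit 0x400c001003000400c003002000c008003002)
noncomputable def f0 : ℕ := (nat_lit 0xc3603d869c9738d1cb02b42dedc9a49aa77f)
noncomputable def q1 : ℕ := (nat_lit 0xc308101003000400c0800c0000c008003002)
noncomputable def q2 : ℕ := (nat_lit 0x30010200100080040810c30008004002001)
noncomputable def sw : ℕ := (nat_lit 0x30c30200100080040810010008004002001)
noncomputable def sbP : List (List (List ℕ)) := [[[(nat_lit 0)]],
  [[(nat_lit 1)]],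
  [[], [(nat_lit 0)], [(nat_lit 0), (nat_lit 0)], [(nat_lit 0), (nat_lit 0), (nat_lit 0)], [(nat_lit 0), (nat_lit 0), (nat_lit 0), (nat_lit 0)], [(nat_lit 0), (nat_lit 0), (nat_lit 0), (nat_lit 0), (nat_lit 0)], [(nat_lit 0), (nat_lit 0), (nat_lit 0), (nat_lit 0), (nat_lit 0), (nat_lit 0)], [(nat_lit 0), (nat_lit 0), (nat_lit 0), (nat_lit 0), (nat_lit 0), (nat_lit 0), (nat_lit 0)], [(nat_lit 0), (nat_lit 0), (nat_lit 0), (nat_lit 0), (nat_lit 0), (nat_lit 0), (nat_lit 0), (nat_lit 0)], [(nat_lit 0), (nat_lit 0), (nat_lit 0), (nat_lit 0), (nat_lit 0), (nat_lit 0), (nat_lit 0), (nat_lit 0), (nat_lit 0)], [(nat_lit 0), (nat_lit 0), (nat_lit 0), (nat_lit 0), (nat_lit 0), (nat_lit 0), (nat_lit 0), (nat_lit 0), (nat_lit 0), (nat_lit 0)]],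
  [[(nat_lit 0)], []]]
noncomputable def sbA : ℕ := (nat_lit 0xc2083018796996b6f8fd4a2bbee147188927)
noncomputable def sbI : ℕ := (nat_lit 0xf4fb9d3ec0e419c398cd279d17a26318009b)
noncomputable def sbS : List St := [⟨1, 0, 0, [(nat_lit 2)], [(nat_lit 0), (nat_lit 1), (nat_lit 2), (nat_lit 3), (nat_lit 4), (nat_lit 5), (nat_lit 6), (nat_lit 7), (nat_lit 8), (nat_lit 9), (nat_lit 10), (nat_lit 11), (nat_lit 12), (nat_lit 13), (nat_lit 14), (nat_lit 15), (nat_lit 64), (nat_lit 66), (nat_lit 68), (nat_lit 70), (nat_lit 72), (nat_lit 74), (nat_lit 76), (nat_lit 78), (nat_lit 128), (nat_lit 129), (nat_lit 132), (nat_lit 133), (nat_lit 136), (nat_lit 137), (nat_lit 140), (nat_lit 141), (nat_lit 192), (nat_lit 195), (nat_lit 196), (nat_lit 199), (nat_lit 200), (nat_lit 203), (nat_lit 204), (nat_lit 207), (nat_lit 256), (nat_lit 257), (nat_lit 258), (nat_lit 259), (nat_lit 264), (nat_lit 265), (nat_lit 266), (nat_lit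 267), (nat_lit 320), (nat_lit 322), (nat_lit 325), (nat_lit 327), (nat_lit 328), (nat_lit 330), (nat_lit 333), (nat_lit 335), (nat_lit 384), (nat_lit 385), (nat_lit 390), (nat_lit 391), (nat_lit 392), (nat_lit 393), (nat_lit 398), (nat_lit 399), (nat_lit 448), (nat_lit 451), (nat_lit 453), (nat_lit 454), (nat_lit 456), (nat_lit 459), (nat_lit 461), (nat_lit 462), (nat_lit 512), (nat_lit 513), (nat_lit 514), (nat_lit 515), (nat_lit 516), (nat_lit 517), (nat_lit 518), (nat_lit 519), (nat_lit 576), (nat_lit 578), (nat_lit 580), (nat_lit 582), (nat_lit 585), (nat_lit 587), (nat_lit 589), (nat_lit 591), (nat_lit 640), (nat_lit 641), (nat_lit 644), (nat_lit 645), (nat_lit 650), (nat_lit 651), (nat_lit 654), (nat_lit 655), (nat_lit 704), (nat_lit 707), (nat_lit 708), (nat_lit 711), (nat_lit 713), (nat_lit 714), (nat_lit 717), (nat_lit 718), (nat_lit 768), (nat_lit 769), (nat_lit 770), (nat_lit 771), (nat_lit 780),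 (nat_lit 781), (nat_lit 782), (nat_lit 783), (nat_lit 832), (nat_lit 834), (nat_lit 837), (nat_lit 839), (nat_lit 841), (nat_lit 843), (nat_lit 844), (nat_lit 846), (nat_lit 896), (nat_lit 897), (nat_lit 902), (nat_lit 903), (nat_lit 906), (nat_lit 907), (nat_lit 908), (nat_lit 909), (nat_lit 960), (nat_lit 963), (nat_lit 965), (nat_lit 966), (nat_lit 969), (nat_lit 970), (nat_lit 972), (nat_lit 975), (nat_lit 1137), (nat_lit 1139), (nat_lit 1141), (nat_lit 1143), (nat_lit 1145), (nat_lit 1147), (nat_lit 1149), (nat_lit 1151), (nat_lit 1202), (nat_lit 1203), (nat_lit 1206), (nat_lit 1207), (nat_lit 1210), (nat_lit 1211), (nat_lit 1214), (nat_lit 1215), (nat_lit 1265), (nat_lit 1266), (nat_lit 1269), (nat_lit 1270), (nat_lit 1273), (nat_lit 1274), (nat_lit 1277), (nat_lit 1278), (nat_lit 1332), (nat_lit 1333), (nat_lit 1334), (nat_lit 1335), (nat_lit 1340), (nat_lit 1341), (nat_lit 1342), (nat_lit 1343), (nat_lit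 1393), (nat_lit 1395), (nat_lit 1396), (nat_lit 1398), (nat_lit 1401), (nat_lit 1403), (nat_lit 1404), (nat_lit 1406), (nat_lit 1458), (nat_lit 1459), (nat_lit 1460), (nat_lit 1461), (nat_lit 1466), (nat_lit 1467), (nat_lit 1468), (nat_lit 1469), (nat_lit 1521), (nat_lit 1522), (nat_lit 1524), (nat_lit 1527), (nat_lit 1529), (nat_lit 1530), (nat_lit 1532), (nat_lit 1535), (nat_lit 1592), (nat_lit 1593), (nat_lit 1594), (nat_lit 1595), (nat_lit 1596), (nat_lit 1597), (nat_lit 1598), (nat_lit 1599), (nat_lit 1649), (nat_lit 1651), (nat_lit 1653), (nat_lit 1655), (nat_lit 1656), (nat_lit 1658), (nat_lit 1660), (nat_lit 1662), (nat_lit 1714), (nat_lit 1715), (nat_lit 1718), (nat_lit 1719), (nat_lit 1720), (nat_lit 1721), (nat_lit 1724), (nat_lit 1725), (nat_lit 1777), (nat_lit 1778), (nat_lit 1781), (nat_lit 1782), (nat_lit 1784), (nat_lit 1787), (nat_lit 1788), (nat_lit 1791), (nat_lit 1844), (nat_lit 1845),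 (nat_lit 1846), (nat_lit 1847), (nat_lit 1848), (nat_lit 1849), (nat_lit 1850), (nat_lit 1851), (nat_lit 1905), (nat_lit 1907), (nat_lit 1908), (nat_lit 1910), (nat_lit 1912), (nat_lit 1914), (nat_lit 1917), (nat_lit 1919), (nat_lit 1970), (nat_lit 1971), (nat_lit 1972), (nat_lit 1973), (nat_lit 1976), (nat_lit 1977), (nat_lit 1982), (nat_lit 1983), (nat_lit 2033), (nat_lit 2034), (nat_lit 2036), (nat_lit 2039), (nat_lit 2040), (nat_lit 2043), (nat_lit 2045), (nat_lit 2046), (nat_lit 2145), (nat_lit 2147), (nat_lit 2149), (nat_lit 2151), (nat_lit 2153), (nat_lit 2155), (nat_lit 2157), (nat_lit 2159), (nat_lit 2210), (nat_lit 2211), (nat_lit 2214), (nat_lit 2215), (nat_lit 2218), (nat_lit 2219), (nat_lit 2222), (nat_lit 2223), (nat_lit 2273), (nat_lit 2274), (nat_lit 2277), (nat_lit 2278), (nat_lit 2281), (nat_lit 2282), (nat_lit 2285), (nat_lit 2286), (nat_lit 2340), (nat_lit 2341), (nat_lit 2342), (nat_lit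 2343), (nat_lit 2348), (nat_lit 2349), (nat_lit 2350), (nat_lit 2351), (nat_lit 2401), (nat_lit 2403), (nat_lit 2404), (nat_lit 2406), (nat_lit 2409), (nat_lit 2411), (nat_lit 2412), (nat_lit 2414), (nat_lit 2466), (nat_lit 2467), (nat_lit 2468), (nat_lit 2469), (nat_lit 2474), (nat_lit 2475), (nat_lit 2476), (nat_lit 2477), (nat_lit 2529), (nat_lit 2530), (nat_lit 2532), (nat_lit 2535), (nat_lit 2537), (nat_lit 2538), (nat_lit 2540), (nat_lit 2543), (nat_lit 2600), (nat_lit 2601), (nat_lit 2602), (nat_lit 2603), (nat_lit 2604), (nat_lit 2605), (nat_lit 2606), (nat_lit 2607), (nat_lit 2657), (nat_lit 2659), (nat_lit 2661), (nat_lit 2663), (nat_lit 2664), (nat_lit 2666), (nat_lit 2668), (nat_lit 2670), (nat_lit 2722), (nat_lit 2723), (nat_lit 2726), (nat_lit 2727), (nat_lit 2728), (nat_lit 2729), (nat_lit 2732), (nat_lit 2733), (nat_lit 2785), (nat_lit 2786), (nat_lit 2789), (nat_lit 2790), (nat_lit 2792),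 (nat_lit 2795), (nat_lit 2796), (nat_lit 2799), (nat_lit 2852), (nat_lit 2853), (nat_lit 2854), (nat_lit 2855), (nat_lit 2856), (nat_lit 2857), (nat_lit 2858), (nat_lit 2859), (nat_lit 2913), (nat_lit 2915), (nat_lit 2916), (nat_lit 2918), (nat_lit 2920), (nat_lit 2922), (nat_lit 2925), (nat_lit 2927), (nat_lit 2978), (nat_lit 2979), (nat_lit 2980), (nat_lit 2981), (nat_lit 2984), (nat_lit 2985), (nat_lit 2990), (nat_lit 2991), (nat_lit 3041), (nat_lit 3042), (nat_lit 3044), (nat_lit 3047), (nat_lit 3048), (nat_lit 3051), (nat_lit 3053), (nat_lit 3054), (nat_lit 3153), (nat_lit 3155), (nat_lit 3157), (nat_lit 3159), (nat_lit 3161), (nat_lit 3163), (nat_lit 3165), (nat_lit 3167), (nat_lit 3218), (nat_lit 3219), (nat_lit 3222), (nat_lit 3223), (nat_lit 3226), (nat_lit 3227), (nat_lit 3230), (nat_lit 3231), (nat_lit 3281), (nat_lit 3282), (nat_lit 3285), (nat_lit 3286), (nat_lit 3289), (nat_lit 3290), (nat_lit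 3293), (nat_lit 3294), (nat_lit 3348), (nat_lit 3349), (nat_lit 3350), (nat_lit 3351), (nat_lit 3356), (nat_lit 3357), (nat_lit 3358), (nat_lit 3359), (nat_lit 3409), (nat_lit 3411), (nat_lit 3412), (nat_lit 3414), (nat_lit 3417), (nat_lit 3419), (nat_lit 3420), (nat_lit 3422), (nat_lit 3474), (nat_lit 3475), (nat_lit 3476), (nat_lit 3477), (nat_lit 3482), (nat_lit 3483), (nat_lit 3484), (nat_lit 3485), (nat_lit 3537), (nat_lit 3538), (nat_lit 3540), (nat_lit 3543), (nat_lit 3545), (nat_lit 3546), (nat_lit 3548), (nat_lit 3551), (nat_lit 3608), (nat_lit 3609), (nat_lit 3610), (nat_lit 3611), (nat_lit 3612), (nat_lit 3613), (nat_lit 3614), (nat_lit 3615), (nat_lit 3665), (nat_lit 3667), (nat_lit 3669), (nat_lit 3671), (nat_lit 3672), (nat_lit 3674), (nat_lit 3676), (nat_lit 3678), (nat_lit 3730), (nat_lit 3731), (nat_lit 3734), (nat_lit 3735), (nat_lit 3736), (nat_lit 3737), (nat_lit 3740), (nat_lit 3741),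 (nat_lit 3793), (nat_lit 3794), (nat_lit 3797), (nat_lit 3798), (nat_lit 3800), (nat_lit 3803), (nat_lit 3804), (nat_lit 3807), (nat_lit 3860), (nat_lit 3861), (nat_lit 3862), (nat_lit 3863), (nat_lit 3864), (nat_lit 3865), (nat_lit 3866), (nat_lit 3867), (nat_lit 3921), (nat_lit 3923), (nat_lit 3924), (nat_lit 3926), (nat_lit 3928), (nat_lit 3930), (nat_lit 3933), (nat_lit 3935), (nat_lit 3986), (nat_lit 3987), (nat_lit 3988), (nat_lit 3989), (nat_lit 3992), (nat_lit 3993), (nat_lit 3998), (nat_lit 3999), (nat_lit 4049), (nat_lit 4050), (nat_lit 4052), (nat_lit 4055), (nat_lit 4056), (nat_lit 4059), (nat_lit 4061), (nat_lit 4062)]⟩,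
  ⟨0, 0, 0, [], []⟩,
  ⟨0, 1, 0, [], []⟩,
  ⟨0, 2, 0, [], []⟩,
  ⟨0, 3, 0, [], []⟩,
  ⟨0, 4, 0, [], []⟩,
  ⟨0, 5, 0, [], []⟩,
  ⟨0, 6, 0, [], []⟩,
  ⟨0, 7, 0, [], []⟩,
  ⟨0, 8, 0, [], []⟩,
  ⟨1, 0, 0, [(nat_lit 3)], [(nat_lit 1040), (nat_lit 2096), (nat_lit 3104)]⟩,
  ⟨1, 0, 0, [(nat_lit 3)], [(nat_lit 1040), (nat_lit 2096), (nat_lit 3104)]⟩]
noncomputable def spP : List (List (List ℕ)) := [[[(nat_lit 0)]],
  [[(nat_lit 1)]],
  [[], [(nat_lit 0)], [(nat_lit 0), (nat_lit 0)], [(nat_lit 0), (nat_lit 0), (nat_lit 0)], [(nat_lit 0), (nat_lit 0), (nat_lit 0), (nat_lit 0)], [(nat_lit 0), (nat_lit 0), (nat_lit 0), (nat_lit 0), (nat_lit 0)], [(nat_lit 0), (nat_lit 0), (nat_lit 0), (nat_lit 0), (nat_lit 0), (nat_lit 0)], [(nat_lit 0), (nat_lit 0), (nat_lit 0), (nat_lit 0), (nat_lit 0), (nat_lit 0), (nat_lit 0)], [(nat_lit 0), (nat_lit 0), (nat_lit 0), (nat_lit 0), (nat_lit 0), (nat_lit 0), (nat_lit 0), (nat_lit 0)],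 [(nat_lit 0), (nat_lit 0), (nat_lit 0), (nat_lit 0), (nat_lit 0), (nat_lit 0), (nat_lit 0), (nat_lit 0), (nat_lit 0)], [(nat_lit 0), (nat_lit 0), (nat_lit 0), (nat_lit 0), (nat_lit 0), (nat_lit 0), (nat_lit 0), (nat_lit 0), (nat_lit 0), (nat_lit 0)]],
  [[(nat_lit 0)], []],
  [[(nat_lit 1)], []]]
noncomputable def spA : ℕ := (nat_lit 0x410c20cd414c4f3f1cb6e965dd034482373e)
noncomputable def spI : ℕ := (nat_lit 0xb4c53616108a0a336da7ad36065282177043)
noncomputable def spS : List St := [⟨1, 0, 0, [(nat_lit 2), (nat_lit 4)], [(nat_lit 1854), (nat_lit 2345), (nat_lit 3607)]⟩,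
  ⟨0, 0, 0, [], []⟩,
  ⟨0, 1, 0, [], []⟩,
  ⟨0, 1, 1, [], []⟩,
  ⟨0, 2, 0, [], []⟩,
  ⟨0, 2, 1, [], []⟩,
  ⟨0, 3, 0, [], []⟩,
  ⟨0, 3, 1, [], []⟩,
  ⟨0, 4, 1, [], []⟩,
  ⟨0, 5, 0, [], []⟩,
  ⟨1, 0, 0, [(nat_lit 3)], [(nat_lit 1040), (nat_lit 2096), (nat_lit 3104)]⟩,
  ⟨1, 0, 0, [(nat_lit 3)], [(nat_lit 1040), (nat_lit 2096), (nat_lit 3104)]⟩]
noncomputable def suP : List (List (List ℕ)) := [[[(nat_lit 0)]],
  [[(nat_lit 1)]],
  [[], [(nat_lit 0)], [(nat_lit 0), (nat_lit 0)], [(nat_lit 0), (nat_lit 0), (nat_lit 0)], [(nat_lit 0), (nat_lit 0), (nat_lit 0), (nat_lit 0)]],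
  [[(nat_lit 0)], []],
  [[(nat_lit 1)], []],
  [[], [(nat_lit 1)], [(nat_lit 1), (nat_lit 1)]]]
noncomputable def suA : ℕ := (nat_lit 0x73e929c204108643cbc9cf55146c5a5bf4b5)
noncomputable def suI : ℕ := (nat_lit 0xd676d9ca542140d8419be7d9452c180700aa)
noncomputable def suS : List St := [⟨1, 0, 0, [(nat_lit 2)], [(nat_lit 77), (nat_lit 79), (nat_lit 138), (nat_lit 139), (nat_lit 197), (nat_lit 198), (nat_lit 324), (nat_lit 326), (nat_lit 386), (nat_lit 387), (nat_lit 460), (nat_lit 463), (nat_lit 584), (nat_lit 586), (nat_lit 652), (nat_lit 653), (nat_lit 705), (nat_lit 706), (nat_lit 833), (nat_lit 835), (nat_lit 900), (nat_lit 901), (nat_lit 968), (nat_lit 971), (nat_lit 1084), (nat_lit 1085), (nat_lit 1086), (nat_lit 1087), (nat_lit 1136), (nat_lit 1138), (nat_lit 1204), (nat_lit 1205), (nat_lit 1272), (nat_lit 1275), (nat_lit 1400), (nat_lit 1402), (nat_lit 1470), (nat_lit 1471), (nat_lit 1520), (nat_lit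 1523), (nat_lit 1652), (nat_lit 1654), (nat_lit 1712), (nat_lit 1713), (nat_lit 1789), (nat_lit 1790), (nat_lit 1840), (nat_lit 1841), (nat_lit 1842), (nat_lit 1843), (nat_lit 1916), (nat_lit 1918), (nat_lit 1978), (nat_lit 1979), (nat_lit 2037), (nat_lit 2038), (nat_lit 2088), (nat_lit 2089), (nat_lit 2090), (nat_lit 2091), (nat_lit 2148), (nat_lit 2150), (nat_lit 2208), (nat_lit 2209), (nat_lit 2284), (nat_lit 2287), (nat_lit 2336), (nat_lit 2337), (nat_lit 2338), (nat_lit 2339), (nat_lit 2413), (nat_lit 2415), (nat_lit 2472), (nat_lit 2473), (nat_lit 2533), (nat_lit 2534), (nat_lit 2656), (nat_lit 2658), (nat_lit 2724), (nat_lit 2725), (nat_lit 2793), (nat_lit 2794), (nat_lit 2921), (nat_lit 2923), (nat_lit 2988), (nat_lit 2989), (nat_lit 3040), (nat_lit 3043), (nat_lit 3092), (nat_lit 3093), (nat_lit 3094), (nat_lit 3095), (nat_lit 3160), (nat_lit 3162), (nat_lit 3228), (nat_lit 3229), (nat_lit 3280),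 (nat_lit 3283), (nat_lit 3408), (nat_lit 3410), (nat_lit 3478), (nat_lit 3479), (nat_lit 3544), (nat_lit 3547), (nat_lit 3600), (nat_lit 3601), (nat_lit 3602), (nat_lit 3603), (nat_lit 3677), (nat_lit 3679), (nat_lit 3738), (nat_lit 3739), (nat_lit 3796), (nat_lit 3799), (nat_lit 3925), (nat_lit 3927), (nat_lit 3984), (nat_lit 3985), (nat_lit 4060), (nat_lit 4063)]⟩,
  ⟨0, 0, 0, [], []⟩,
  ⟨0, 0, 1, [], []⟩,
  ⟨0, 1, 0, [], []⟩,
  ⟨0, 1, 1, [], []⟩,
  ⟨0, 3, 0, [], []⟩,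
  ⟨0, 3, 1, [], []⟩,
  ⟨0, 5, 1, [], []⟩,
  ⟨1, 0, 0, [(nat_lit 3)], [(nat_lit 1040), (nat_lit 1854), (nat_lit 2096), (nat_lit 2345), (nat_lit 3104), (nat_lit 3607)]⟩,
  ⟨0, 8, 1, [], []⟩,
  ⟨1, 0, 0, [(nat_lit 3)], [(nat_lit 1040), (nat_lit 1854), (nat_lit 2096), (nat_lit 2345), (nat_lit 3104), (nat_lit 3607)]⟩,
  ⟨0, 10, 1, [], []⟩]
noncomputable def svP : List (List (List ℕ)) := [[[(nat_lit 0)]],
  [[(nat_lit 1)]],
  [[], [(nat_lit 0)], [(nat_lit 0), (nat_lit 0)], [(nat_lit 0), (nat_lit 0), (nat_lit 0)], [(nat_lit 0), (nat_lit 0), (nat_lit 0), (nat_lit 0)]],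
  [[(nat_lit 0)], []],
  [[(nat_lit 1)], []],
  [[], [(nat_lit 1)], [(nat_lit 1), (nat_lit 1)]]]
noncomputable def svA : ℕ := (nat_lit 0x410830e1773ec58ae94b4921f577bae139e5)
noncomputable def svI : ℕ := (nat_lit 0xa85fa124e31d3061159247a13102020650ac)
noncomputable def svS : List St := [⟨1, 0, 0, [(nat_lit 2), (nat_lit 5)], [(nat_lit 77), (nat_lit 79), (nat_lit 138), (nat_lit 139), (nat_lit 197), (nat_lit 198), (nat_lit 324), (nat_lit 326), (nat_lit 386), (nat_lit 387), (nat_lit 460), (nat_lit 463), (nat_lit 584), (nat_lit 586), (nat_lit 652), (nat_lit 653), (nat_lit 705), (nat_lit 706), (nat_lit 833), (nat_lit 835), (nat_lit 900), (nat_lit 901), (nat_lit 968), (nat_lit 971), (nat_lit 1084), (nat_lit 1085), (nat_lit 1086), (nat_lit 1087), (nat_lit 1136), (nat_lit 1138), (nat_lit 1204), (nat_lit 1205), (nat_lit 1272), (nat_lit 1275), (nat_lit 1400), (nat_lit 1402), (nat_lit 1470), (nat_lit 1471), (nat_lit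 1520), (nat_lit 1523), (nat_lit 1652), (nat_lit 1654), (nat_lit 1712), (nat_lit 1713), (nat_lit 1789), (nat_lit 1790), (nat_lit 1840), (nat_lit 1841), (nat_lit 1842), (nat_lit 1843), (nat_lit 1916), (nat_lit 1918), (nat_lit 1978), (nat_lit 1979), (nat_lit 2037), (nat_lit 2038), (nat_lit 2088), (nat_lit 2089), (nat_lit 2090), (nat_lit 2091), (nat_lit 2148), (nat_lit 2150), (nat_lit 2208), (nat_lit 2209), (nat_lit 2284), (nat_lit 2287), (nat_lit 2336), (nat_lit 2337), (nat_lit 2338), (nat_lit 2339), (nat_lit 2413), (nat_lit 2415), (nat_lit 2472), (nat_lit 2473), (nat_lit 2533), (nat_lit 2534), (nat_lit 2656), (nat_lit 2658), (nat_lit 2724), (nat_lit 2725), (nat_lit 2793), (nat_lit 2794), (nat_lit 2921), (nat_lit 2923), (nat_lit 2988), (nat_lit 2989), (nat_lit 3040), (nat_lit 3043), (nat_lit 3092), (nat_lit 3093), (nat_lit 3094), (nat_lit 3095), (nat_lit 3160), (nat_lit 3162), (nat_lit 3228), (nat_lit 3229),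 (nat_lit 3280), (nat_lit 3283), (nat_lit 3408), (nat_lit 3410), (nat_lit 3478), (nat_lit 3479), (nat_lit 3544), (nat_lit 3547), (nat_lit 3600), (nat_lit 3601), (nat_lit 3602), (nat_lit 3603), (nat_lit 3677), (nat_lit 3679), (nat_lit 3738), (nat_lit 3739), (nat_lit 3796), (nat_lit 3799), (nat_lit 3925), (nat_lit 3927), (nat_lit 3984), (nat_lit 3985), (nat_lit 4060), (nat_lit 4063)]⟩,
  ⟨0, 0, 0, [], []⟩,
  ⟨0, 0, 1, [], []⟩,
  ⟨0, 1, 0, [], []⟩,
  ⟨0, 1, 1, [], []⟩,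
  ⟨0, 3, 0, [], []⟩,
  ⟨0, 3, 1, [], []⟩,
  ⟨0, 5, 1, [], []⟩,
  ⟨1, 0, 0, [(nat_lit 3), (nat_lit 5)], [(nat_lit 1854), (nat_lit 2345), (nat_lit 3607)]⟩,
  ⟨0, 8, 1, [], []⟩,
  ⟨1, 0, 0, [(nat_lit 3), (nat_lit 4)], [(nat_lit 1040), (nat_lit 2096), (nat_lit 3104)]⟩,
  ⟨1, 0, 0, [(nat_lit 3), (nat_lit 4)], [(nat_lit 1040), (nat_lit 2096), (nat_lit 3104)]⟩]
noncomputable def sw2P : List (List (List ℕ)) := [[[(nat_lit 0)]],
  [[(nat_lit 1)]],
  [[], [(nat_lit 0)], [(nat_lit 0), (nat_lit 0)], [(nat_lit 0), (nat_lit 0), (nat_lit 0)], [(nat_lit 0), (nat_lit 0), (nat_lit 0), (nat_lit 0)]],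
  [[(nat_lit 0)], []],
  [[(nat_lit 1)], []],
  [[], [(nat_lit 1)], [(nat_lit 1), (nat_lit 1)]]]
noncomputable def sw2A : ℕ := (nat_lit 0xc2041073ee17d969235f396fd97aa477c1cc)
noncomputable def sw2I : ℕ := (nat_lit 0x515bee1593f03a12d46fbfee3961120d6088)
noncomputable def sw2S : List St := [⟨1, 0, 0, [(nat_lit 2), (nat_lit 4)], [(nat_lit 77), (nat_lit 79), (nat_lit 138), (nat_lit 139), (nat_lit 197), (nat_lit 198), (nat_lit 324), (nat_lit 326), (nat_lit 386), (nat_lit 387), (nat_lit 460), (nat_lit 463), (nat_lit 584), (nat_lit 586), (nat_lit 652), (nat_lit 653), (nat_lit 705), (nat_lit 706), (nat_lit 833), (nat_lit 835), (nat_lit 900), (nat_lit 901), (nat_lit 968), (nat_lit 971), (nat_lit 1084), (nat_lit 1085), (nat_lit 1086), (nat_lit 1087), (nat_lit 1136), (nat_lit 1138), (nat_lit 1204), (nat_lit 1205), (nat_lit 1272), (nat_lit 1275), (nat_lit 1400), (nat_lit 1402), (nat_lit 1470), (nat_lit 1471), (nat_lit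 1520), (nat_lit 1523), (nat_lit 1652), (nat_lit 1654), (nat_lit 1712), (nat_lit 1713), (nat_lit 1789), (nat_lit 1790), (nat_lit 1840), (nat_lit 1841), (nat_lit 1842), (nat_lit 1843), (nat_lit 1916), (nat_lit 1918), (nat_lit 1978), (nat_lit 1979), (nat_lit 2037), (nat_lit 2038), (nat_lit 2088), (nat_lit 2089), (nat_lit 2090), (nat_lit 2091), (nat_lit 2148), (nat_lit 2150), (nat_lit 2208), (nat_lit 2209), (nat_lit 2284), (nat_lit 2287), (nat_lit 2336), (nat_lit 2337), (nat_lit 2338), (nat_lit 2339), (nat_lit 2413), (nat_lit 2415), (nat_lit 2472), (nat_lit 2473), (nat_lit 2533), (nat_lit 2534), (nat_lit 2656), (nat_lit 2658), (nat_lit 2724), (nat_lit 2725), (nat_lit 2793), (nat_lit 2794), (nat_lit 2921), (nat_lit 2923), (nat_lit 2988), (nat_lit 2989), (nat_lit 3040), (nat_lit 3043), (nat_lit 3092), (nat_lit 3093), (nat_lit 3094), (nat_lit 3095), (nat_lit 3160), (nat_lit 3162), (nat_lit 3228), (nat_lit 3229),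 (nat_lit 3280), (nat_lit 3283), (nat_lit 3408), (nat_lit 3410), (nat_lit 3478), (nat_lit 3479), (nat_lit 3544), (nat_lit 3547), (nat_lit 3600), (nat_lit 3601), (nat_lit 3602), (nat_lit 3603), (nat_lit 3677), (nat_lit 3679), (nat_lit 3738), (nat_lit 3739), (nat_lit 3796), (nat_lit 3799), (nat_lit 3925), (nat_lit 3927), (nat_lit 3984), (nat_lit 3985), (nat_lit 4060), (nat_lit 4063)]⟩,
  ⟨0, 0, 0, [], []⟩,
  ⟨0, 1, 0, [], []⟩,
  ⟨0, 2, 0, [], []⟩,
  ⟨1, 0, 0, [(nat_lit 2), (nat_lit 4)], [(nat_lit 77), (nat_lit 79), (nat_lit 138), (nat_lit 139), (nat_lit 197), (nat_lit 198), (nat_lit 324), (nat_lit 326), (nat_lit 386), (nat_lit 387), (nat_lit 460), (nat_lit 463), (nat_lit 584), (nat_lit 586), (nat_lit 652), (nat_lit 653), (nat_lit 705), (nat_lit 706), (nat_lit 833), (nat_lit 835), (nat_lit 900), (nat_lit 901), (nat_lit 968), (nat_lit 971), (nat_lit 1084), (nat_lit 1085), (nat_lit 1086), (nat_lit 1087), (nat_lit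 1136), (nat_lit 1138), (nat_lit 1204), (nat_lit 1205), (nat_lit 1272), (nat_lit 1275), (nat_lit 1400), (nat_lit 1402), (nat_lit 1470), (nat_lit 1471), (nat_lit 1520), (nat_lit 1523), (nat_lit 1652), (nat_lit 1654), (nat_lit 1712), (nat_lit 1713), (nat_lit 1789), (nat_lit 1790), (nat_lit 1840), (nat_lit 1841), (nat_lit 1842), (nat_lit 1843), (nat_lit 1916), (nat_lit 1918), (nat_lit 1978), (nat_lit 1979), (nat_lit 2037), (nat_lit 2038), (nat_lit 2088), (nat_lit 2089), (nat_lit 2090), (nat_lit 2091), (nat_lit 2148), (nat_lit 2150), (nat_lit 2208), (nat_lit 2209), (nat_lit 2284), (nat_lit 2287), (nat_lit 2336), (nat_lit 2337), (nat_lit 2338), (nat_lit 2339), (nat_lit 2413), (nat_lit 2415), (nat_lit 2472), (nat_lit 2473), (nat_lit 2533), (nat_lit 2534), (nat_lit 2656), (nat_lit 2658), (nat_lit 2724), (nat_lit 2725), (nat_lit 2793), (nat_lit 2794), (nat_lit 2921), (nat_lit 2923), (nat_lit 2988), (nat_lit 2989),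 (nat_lit 3040), (nat_lit 3043), (nat_lit 3092), (nat_lit 3093), (nat_lit 3094), (nat_lit 3095), (nat_lit 3160), (nat_lit 3162), (nat_lit 3228), (nat_lit 3229), (nat_lit 3280), (nat_lit 3283), (nat_lit 3408), (nat_lit 3410), (nat_lit 3478), (nat_lit 3479), (nat_lit 3544), (nat_lit 3547), (nat_lit 3600), (nat_lit 3601), (nat_lit 3602), (nat_lit 3603), (nat_lit 3677), (nat_lit 3679), (nat_lit 3738), (nat_lit 3739), (nat_lit 3796), (nat_lit 3799), (nat_lit 3925), (nat_lit 3927), (nat_lit 3984), (nat_lit 3985), (nat_lit 4060), (nat_lit 4063)]⟩,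
  ⟨0, 4, 0, [], []⟩,
  ⟨0, 5, 0, [], []⟩,
  ⟨0, 6, 0, [], []⟩,
  ⟨1, 0, 0, [(nat_lit 3), (nat_lit 4)], [(nat_lit 1854), (nat_lit 2345), (nat_lit 3607)]⟩,
  ⟨1, 0, 0, [(nat_lit 3), (nat_lit 4)], [(nat_lit 1854), (nat_lit 2345), (nat_lit 3607)]⟩,
  ⟨1, 0, 0, [(nat_lit 3), (nat_lit 5)], [(nat_lit 1040), (nat_lit 2096), (nat_lit 3104)]⟩,
  ⟨0, 10, 1, [], []⟩]
noncomputable def sxP : List (List (List ℕ)) := [[[(nat_lit 0)]],
  [[(nat_lit 1)]],
  [[], [(nat_lit 0)], [(nat_lit 0), (nat_lit 0)], [(nat_lit 0), (nat_lit 0), (nat_lit 0)], [(nat_lit 0), (nat_lit 0), (nat_lit 0), (nat_lit 0)], [(nat_lit 0), (nat_lit 0), (nat_lit 0), (nat_lit 0), (nat_lit 0)], [(nat_lit 0), (nat_lit 0), (nat_lit 0), (nat_lit 0), (nat_lit 0), (nat_lit 0)], [(nat_lit 0), (nat_lit 0), (nat_lit 0), (nat_lit 0), (nat_lit 0), (nat_lit 0), (nat_lit 0)], [(nat_lit 0), (nat_lit 0), (nat_lit 0), (nat_lit 0), (nat_lit 0), (nat_lit 0), (nat_lit 0),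 (nat_lit 0)], [(nat_lit 0), (nat_lit 0), (nat_lit 0), (nat_lit 0), (nat_lit 0), (nat_lit 0), (nat_lit 0), (nat_lit 0), (nat_lit 0)], [(nat_lit 0), (nat_lit 0), (nat_lit 0), (nat_lit 0), (nat_lit 0), (nat_lit 0), (nat_lit 0), (nat_lit 0), (nat_lit 0), (nat_lit 0)]],
  [[(nat_lit 0)], []],
  [[(nat_lit 1)], []]]
noncomputable def sxA : ℕ := (nat_lit 0xc208308a83c4c91a246f77faba02c8431e17)
noncomputable def sxI : ℕ := (nat_lit 0xe7ab4c1eb1613ce0a3d3674c2822e7043134)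
noncomputable def sxS : List St := [⟨1, 0, 0, [(nat_lit 2), (nat_lit 4)], [(nat_lit 1854), (nat_lit 2345), (nat_lit 3607)]⟩,
  ⟨0, 0, 0, [], []⟩,
  ⟨0, 1, 0, [], []⟩,
  ⟨0, 1, 1, [], []⟩,
  ⟨0, 2, 0, [], []⟩,
  ⟨0, 2, 1, [], []⟩,
  ⟨0, 3, 0, [], []⟩,
  ⟨0, 3, 1, [], []⟩,
  ⟨0, 4, 1, [], []⟩,
  ⟨0, 5, 0, [], []⟩,
  ⟨1, 0, 0, [(nat_lit 3)], [(nat_lit 1040), (nat_lit 2096), (nat_lit 3104)]⟩,
  ⟨1, 0, 0, [(nat_lit 3)], [(nat_lit 1040), (nat_lit 2096), (nat_lit 3104)]⟩]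
noncomputable def nA_0 : Net := (Net.cons (nat_lit 1) (nat_lit 5259536) (Net.cons (nat_lit 2) (nat_lit 2105360) (Net.cons (nat_lit 4) (nat_lit 525568) (Net.cons (nat_lit 8) (nat_lit 13) (Net.cons (nat_lit 16) (nat_lit 63) (Net.cons (nat_lit 8) (nat_lit 17) (Net.cons (nat_lit 4) (nat_lit 527374) (Net.cons (nat_lit 2) (nat_lit 2228736) (Net.cons (nat_lit 1) (nat_lit 5313808) Net.nil)))))))))
noncomputable def nA_1 : Net := (Net.cons (nat_lit 1) (nat_lit 282944) (Net.cons (nat_lit 2) (nat_lit 209200) (Net.cons (nat_lit 4) (nat_lit 852992) (Net.cons (nat_lit 8) (nat_lit 99) (Net.cons (nat_lit 16) (nat_lit 243) (Net.cons (nat_lit 8) (nat_lit 111) (Net.cons (nat_lit 4) (nat_lit 984078) (Net.cons (nat_lit 2) (nat_lit 200962) (Net.cons (nat_lit 1) (nat_lit 83264) Net.nil)))))))))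
noncomputable def nA_2 : Net := (Net.cons (nat_lit 1) (nat_lit 1327104) (Net.cons (nat_lit 2) (nat_lit 3150080) (Net.cons (nat_lit 4) (nat_lit 786432) (Net.cons (nat_lit 8) (nat_lit 90) (Net.cons (nat_lit 16) (nat_lit 94) (Net.cons (nat_lit 8) (nat_lit 80) (Net.cons (nat_lit 4) (nat_lit 787468) (Net.cons (nat_lit 2) (nat_lit 3158288) (Net.cons (nat_lit 1) (nat_lit 1130564) Net.nil)))))))))
noncomputable def nA_3 : Net := (Net.cons (nat_lit 1) (nat_lit 4460624) (Net.cons (nat_lit 2) (nat_lit 65536) (Net.cons (nat_lit 4) (nat_lit 658176) (Net.cons (nat_lit 8) (nat_lit 10) (Net.cons (nat_lit 16) (nat_lit 235) (Net.cons (nat_lit 8) (nat_lit 30) (Net.cons (nat_lit 4) (nat_lit 985861) (Net.cons (nat_lit 2) (nat_lit 1184563) (Net.cons (nat_lit 1) (nat_lit 4460624) Net.nil)))))))))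
noncomputable def nA : List Net := [nA_0, nA_1, nA_2, nA_3]

end CF.J4
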