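import Cfsg.Agent.J4.AD
import Cfsg.Agent.Comp.MatBase

/-! Data for the subgroup `B` and the elementary abelian group `V`. -/

set_option autoImplicit false
set_option maxRecDepth 1000000
set_option maxHeartbeats 0

namespace CF.J4
open CF.Comp CF.Dce

noncomputable def LF : List ℕ := [(nat_lit 0x800400200100080040020010008004002001), (nat_lit 0xd72bd363cd146ffd95a81fc3aacfd88eec59), (nat_lit 0x2aa17f3ca28f4b2c53ff556ff1a535f935f2), (nat_lit 0x51ff2508d046f5fae561ab353c014077f9aa), (nat_lit 0x4d1ca28ea4bf8e64bb4538b2e937f2249387), (nat_lit 0x8d74a981c42446acff269397f0050077f9aa), (nat_lit 0x8d74a98db4ad4e3cb1269397e807c04718a3), (nat_lit 0x72e91973692d9eae55217129b2963e002003), (nat_lit 0x72e91973692d9eae55217129b2963e002003), (nat_lit 0x400c001003000400c003002000c008003002), (nat_lit 0xc008003002000c008001003000400c001003), (nat_lit 0x1800400200100080040020010008004002001), (nat_lit 0x1800400200100080040020010008004002001), (nat_lit 0x2800400200100080040020010008004002001), (nat_lit 0x2800400200100080040020010008004002001),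 (nat_lit 0x4800400200100080040020010008004002001), (nat_lit 0x4800400200100080040020010008004002001), (nat_lit 0x8800400200100080040020010008004002001), (nat_lit 0x8800400200100080040020010008004002001), (nat_lit 0x10800400200100080040020010008004002001), (nat_lit 0x10800400200100080040020010008004002001), (nat_lit 0x20800400200100080040020010008004002001), (nat_lit 0x20800400200100080040020010008004002001), (nat_lit 0x40800400200100080040020010008004002001), (nat_lit 0x40800400200100080040020010008004002001), (nat_lit 0x80800400200100080040020010008004002001), (nat_lit 0x80800400200100080040020010008004002001), (nat_lit 0x100800400200100080040020010008004002001), (nat_lit 0x100800400200100080040020010008004002001), (nat_lit 0x200800400200100080040020010008004002001), (nat_lit 0x200800400200100080040020010008004002001), (nat_lit 0x400800400200100080040020010008004002001), (nat_lit 0x400800400200100080040020010008004002001), (nat_lit 0x800800400200100080040020010008004002001), (nat_lit 0x800800400200100080040020010008004002001)]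
noncomputable def wB : List (List ℕ) := [[(nat_lit 5), (nat_lit 1), (nat_lit 5), (nat_lit 1), (nat_lit 5), (nat_lit 5), (nat_lit 2), (nat_lit 6), (nat_lit 2), (nat_lit 6)],
  [(nat_lit 5), (nat_lit 2), (nat_lit 5), (nat_lit 2), (nat_lit 6), (nat_lit 1), (nat_lit 1), (nat_lit 5), (nat_lit 1), (nat_lit 4), (nat_lit 6)],
  [(nat_lit 3), (nat_lit 2), (nat_lit 5), (nat_lit 2), (nat_lit 5), (nat_lit 1), (nat_lit 5), (nat_lit 3), (nat_lit 2), (nat_lit 5), (nat_lit 1), (nat_lit 9)],
  [(nat_lit 6), (nat_lit 2), (nat_lit 6), (nat_lit 2), (nat_lit 2), (nat_lit 6), (nat_lit 2), (nat_lit 5), (nat_lit 2), (nat_lit 2), (nat_lit 5)],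
  [(nat_lit 7), (nat_lit 1), (nat_lit 3), (nat_lit 6), (nat_lit 1), (nat_lit 5), (nat_lit 2), (nat_lit 5), (nat_lit 2), (nat_lit 2), (nat_lit 5), (nat_lit 2), (nat_lit 3), (nat_lit 9)],
  [(nat_lit 7), (nat_lit 6), (nat_lit 2), (nat_lit 6), (nat_lit 4), (nat_lit 1), (nat_lit 5), (nat_lit 2), (nat_lit 2), (nat_lit 6), (nat_lit 4), (nat_lit 9)],
  [(nat_lit 9)],
  [(nat_lit 11)],
  [(nat_lit 13)],
  [(nat_lit 15)],
  [(nat_lit 17)],
  [(nat_lit 19)],
  [(nat_lit 21)],
  [(nat_lit 23)],
  [(nat_lit 25)],
  [(nat_lit 27)],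
  [(nat_lit 29)],
  [(nat_lit 31)],
  [(nat_lit 33)]]
noncomputable def LB : List ℕ := [(nat_lit 0x800400200100080040020010008004002001), (nat_lit 0x80940e23511a094068020010008004002001), (nat_lit 0x80940e23511a094068020010008004002001), (nat_lit 0x80b40d2371190a807c020010008004002001), (nat_lit 0x80b40d2371190a807c020010008004002001), (nat_lit 0x80440821712908804c020010008004002001), (nat_lit 0x80440821712908804c020010008004002001), (nat_lit 0x80740921512a0a4078020010008004002001), (nat_lit 0x80740921512a0a4078020010008004002001), (nat_lit 0x4008002803c00800c001002000c00400f005), (nat_lit 0x4008002803c00800c001002000c00400f005), (nat_lit 0x540a80dc06403801c000b00d02d036033011), (nat_lit 0x3801c0e00700980ec001802c01602b01b02d), (nat_lit 0x400c001003000400c003002000c008003002), (nat_lit 0xc008003002000c008001003000400c001003), (nat_lit 0x1800400200100080040020010008004002001), (nat_lit 0x1800400200100080040020010008004002001), (nat_lit 0x2800400200100080040020010008004002001), (nat_lit 0x2800400200100080040020010008004002001),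 (nat_lit 0x4800400200100080040020010008004002001), (nat_lit 0x4800400200100080040020010008004002001), (nat_lit 0x8800400200100080040020010008004002001), (nat_lit 0x8800400200100080040020010008004002001), (nat_lit 0x10800400200100080040020010008004002001), (nat_lit 0x10800400200100080040020010008004002001), (nat_lit 0x20800400200100080040020010008004002001), (nat_lit 0x20800400200100080040020010008004002001), (nat_lit 0x40800400200100080040020010008004002001), (nat_lit 0x40800400200100080040020010008004002001), (nat_lit 0x80800400200100080040020010008004002001), (nat_lit 0x80800400200100080040020010008004002001), (nat_lit 0x100800400200100080040020010008004002001), (nat_lit 0x100800400200100080040020010008004002001), (nat_lit 0x200800400200100080040020010008004002001), (nat_lit 0x200800400200100080040020010008004002001), (nat_lit 0x400800400200100080040020010008004002001), (nat_lit 0x400800400200100080040020010008004002001), (nat_lit 0x800800400200100080040020010008004002001), (nat_lit 0x800800400200100080040020010008004002001)]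
noncomputable def nB0_0 : Net := (Net.cons (nat_lit 1) (nat_lit 282624) (Net.cons (nat_lit 2) (nat_lit 13056) (Net.cons (nat_lit 4) (nat_lit 918528) (Net.cons (nat_lit 8) (nat_lit 131) (Net.cons (nat_lit 16) (nat_lit 195) (Net.cons (nat_lit 8) (nat_lit 83) (Net.cons (nat_lit 4) (nat_lit 919552) (Net.cons (nat_lit 2) (nat_lit 1061632) (Net.cons (nat_lit 1) (nat_lit 16704) Net.nil)))))))))
noncomputable def nB0_1 : Net := (Net.cons (nat_lit 1) (nat_lit 345344) (Net.cons (nat_lit 2) (nat_lit 1057024) (Net.cons (nat_lit 4) (nat_lit 68608) (Net.cons (nat_lit 8) (nat_lit 15) (Net.cons (nat_lit 16) (nat_lit 15) (Net.cons (nat_lit 8) (nat_lit 223) (Net.cons (nat_lit 4) (nat_lit 68608) (Net.cons (nat_lit 2) (nat_lit 1057024) (Net.cons (nat_lit 1) (nat_lit 1393920) Net.nil)))))))))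
noncomputable def nB0_2 : Net := (Net.cons (nat_lit 1) (nat_lit 4526080) (Net.cons (nat_lit 2) (nat_lit 65536) (Net.cons (nat_lit 4) (nat_lit 2048) (Net.cons (nat_lit 8) (nat_lit 25) (Net.cons (nat_lit 16) (nat_lit 153) (Net.cons (nat_lit 8) (nat_lit 25) (Net.cons (nat_lit 4) (nat_lit 199424) (Net.cons (nat_lit 2) (nat_lit 65552) (Net.cons (nat_lit 1) (nat_lit 4527104) Net.nil)))))))))
noncomputable def nB0_3 : Net := (Net.cons (nat_lit 1) (nat_lit 1114432) (Net.cons (nat_lit 2) (nat_lit 200960) (Net.cons (nat_lit 4) (nat_lit 264448) (Net.cons (nat_lit 8) (nat_lit 46) (Net.cons (nat_lit 16) (nat_lit 46) (Net.cons (nat_lit 8) (nat_lit 254) (Net.cons (nat_lit 4) (nat_lit 329984) (Net.cons (nat_lit 2) (nat_lit 200960) (Net.cons (nat_lit 1) (nat_lit 1114432) Net.nil)))))))))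
noncomputable def nB0_4 : Net := (Net.cons (nat_lit 1) (nat_lit 4457732) (Net.cons (nat_lit 2) (nat_lit 3280896) (Net.cons (nat_lit 4) (nat_lit 262144) (Net.cons (nat_lit 8) (nat_lit 34) (Net.cons (nat_lit 16) (nat_lit 243) (Net.cons (nat_lit 8) (nat_lit 34) (Net.cons (nat_lit 4) (nat_lit 328705) (Net.cons (nat_lit 2) (nat_lit 3280898) (Net.cons (nat_lit 1) (nat_lit 4457732) Net.nil)))))))))
noncomputable def nB0_5 : Net := (Net.cons (nat_lit 1) (nat_lit 5521472) (Net.cons (nat_lit 2) (nat_lit 3276832) (Net.cons (nat_lit 4) (nat_lit 984064) (Net.cons (nat_lit 8) (nat_lit 154) (Net.cons (nat_lit 16) (nat_lit 219) (Net.cons (nat_lit 8) (nat_lit 90) (Net.cons (nat_lit 4) (nat_lit 983560) (Net.cons (nat_lit 2) (nat_lit 1250098) (Net.cons (nat_lit 1) (nat_lit 4472900) Net.nil)))))))))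
noncomputable def nB0 : List Net := [nB0_0, nB0_1, nB0_2, nB0_3, nB0_4, nB0_5]
noncomputable def nB : List Net := lapp nB0 [.nil, .nil, .nil, .nil, .nil, .nil, .nil, .nil, .nil, .nil, .nil, .nil, .nil]
noncomputable def cB : List Lvl := [⟨(nat_lit 4), [[(nat_lit 1)],
  [(nat_lit 9)],
  [(nat_lit 11)]], (nat_lit 2)⟩,
  ⟨(nat_lit 0), [[(nat_lit 8), (nat_lit 12)],
  [(nat_lit 10), (nat_lit 7), (nat_lit 1)]], (nat_lit 1)⟩,
  ⟨(nat_lit 2), [[(nat_lit 10), (nat_lit 12), (nat_lit 1)],
  [(nat_lit 12), (nat_lit 3), (nat_lit 12)]], (nat_lit 2)⟩,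
  ⟨(nat_lit 1), [[(nat_lit 10), (nat_lit 12), (nat_lit 1)],
  [(nat_lit 12), (nat_lit 12), (nat_lit 10), (nat_lit 11), (nat_lit 9), (nat_lit 3), (nat_lit 11)]], (nat_lit 2)⟩,
  ⟨(nat_lit 3), [[(nat_lit 11), (nat_lit 11), (nat_lit 10), (nat_lit 11), (nat_lit 11), (nat_lit 9), (nat_lit 3), (nat_lit 11), (nat_lit 11)],
  [(nat_lit 12), (nat_lit 4), (nat_lit 12), (nat_lit 10), (nat_lit 12), (nat_lit 9), (nat_lit 11), (nat_lit 11), (nat_lit 11)]], (nat_lit 2)⟩,
  ⟨(nat_lit 5), [[(nat_lit 12), (nat_lit 4), (nat_lit 12), (nat_lit 10), (nat_lit 12), (nat_lit 9), (nat_lit 11), (nat_lit 11), (nat_lit 11)]], (nat_lit 2)⟩]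
noncomputable def T77 : List Nat := [(nat_lit 0x1fffffffffffffffffff),
  (nat_lit 0x1fffff00000000000000),
  (nat_lit 0x1f0000ffff0000000000),
  (nat_lit 0x10f000f000fff0000000),
  (nat_lit 0x88e008e00e00ff80000),
  (nat_lit 0x1009c009c09c0c07e000),
  (nat_lit 0x4452048305203061f00),
  (nat_lit 0x4281825084900c518e0),
  (nat_lit 0x2480680a80582329098),
  (nat_lit 0x1248481141068889454),
  (nat_lit 0x14250180a2840a0ce0a),
  (nat_lit 0x280b02805064059310a),
  (nat_lit 0x2144843028140622915),
  (nat_lit 0x8408920928031944192),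
  (nat_lit 0x10022c021940d8134241),
  (nat_lit 0x1182122603081086878),
  (nat_lit 0x82062404c241a440433),
  (nat_lit 0x1004130426232414a241),
  (nat_lit 0x2230114508282098887),
  (nat_lit 0x480451284111681032c),
  (nat_lit 0x1810a448108a9203226),
  (nat_lit 0x4128280430a154204cc),
  (nat_lit 0x81114112144242845a1),
  (nat_lit 0x1fffffffffffffffffff)]
noncomputable def n77_0 : Net := (Net.cons (nat_lit 1) (nat_lit 0x4555550515150114055) (Net.cons (nat_lit 2) (nat_lit 0x2210002011110200000) (Net.cons (nat_lit 4) (nat_lit 0x10d0a05050c020c0c0e) (Net.cons (nat_lit 8) (nat_lit 0x1700120024004000c0) (Net.cons (nat_lit 16) (nat_lit 0x7c66000015ca) (Net.cons (nat_lit 32) (nat_lit 4363) (Net.cons (nat_lit 64) (nat_lit 7679) (Net.cons (nat_lit 32) (nat_lit 1576612109) (Net.cons (nat_lit 16) (nat_lit 0x32af0000a29a) (Net.cons (nat_lit 8) (nat_lit 0x1007c001500c70047) (Net.cons (nat_lit 4) (nat_lit 0xe0002000b0f0b0707) (Net.cons (nat_lit 2) (nat_lit 0x2220222200311302313) (Net.cons (nat_lit 1) (nat_lit 0x4154145550454440451)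 Net.nil)))))))))))))
noncomputable def n77_1 : Net := (Net.cons (nat_lit 1) (nat_lit 0x1015015555410540101) (Net.cons (nat_lit 2) (nat_lit 0x2132330130210031230) (Net.cons (nat_lit 4) (nat_lit 0x10a030709020206030a) (Net.cons (nat_lit 8) (nat_lit 0xb00be004000980040) (Net.cons (nat_lit 16) (nat_lit 0x1d8600000c3a) (Net.cons (nat_lit 32) (nat_lit 2781) (Net.cons (nat_lit 64) (nat_lit 7935) (Net.cons (nat_lit 32) (nat_lit 4181036215) (Net.cons (nat_lit 16) (nat_lit 0x9a0300003886) (Net.cons (nat_lit 8) (nat_lit 0x120039002d00d30079) (Net.cons (nat_lit 4) (nat_lit 0x1080b01050f0d070b0b) (Net.cons (nat_lit 2) (nat_lit 0x2121220200133302221) (Net.cons (nat_lit 1) (nat_lit 0x4450411544511010511) Net.nil)))))))))))))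
noncomputable def n77_2 : Net := (Net.cons (nat_lit 1) (nat_lit 0x1414011400510501055) (Net.cons (nat_lit 2) (nat_lit 0x1110202300312230021) (Net.cons (nat_lit 4) (nat_lit 0x1040b020709020902) (Net.cons (nat_lit 8) (nat_lit 0x10007900ba00080000) (Net.cons (nat_lit 16) (nat_lit 0x401c000004b5) (Net.cons (nat_lit 32) (nat_lit 2300) (Net.cons (nat_lit 64) (nat_lit 4095) (Net.cons (nat_lit 32) (nat_lit 3698499898) (Net.cons (nat_lit 16) (nat_lit 0xbfd8000091ce) (Net.cons (nat_lit 8) (nat_lit 0x1700b100fc00aa001d) (Net.cons (nat_lit 4) (nat_lit 0x1020a05060e000d0108) (Net.cons (nat_lit 2) (nat_lit 0x2201133021312020312) (Net.cons (nat_lit 1) (nat_lit 0x545155541144550541) Net.nil)))))))))))))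
noncomputable def n77_3 : Net := (Net.cons (nat_lit 1) (nat_lit 0x5001005114000114550) (Net.cons (nat_lit 2) (nat_lit 0x112020112000030210) (Net.cons (nat_lit 4) (nat_lit 0x7060f040b0805040a) (Net.cons (nat_lit 8) (nat_lit 0x90012008700e20040) (Net.cons (nat_lit 16) (nat_lit 0x6a8100000810) (Net.cons (nat_lit 32) (nat_lit 1657) (Net.cons (nat_lit 64) (nat_lit 3705) (Net.cons (nat_lit 32) (nat_lit 1886591739) (Net.cons (nat_lit 16) (nat_lit 0xed8100001de5) (Net.cons (nat_lit 8) (nat_lit 0x10006c008700f30059) (Net.cons (nat_lit 4) (nat_lit 0x10601090d010e0c030a) (Net.cons (nat_lit 2) (nat_lit 0x1330132113222030212) (Net.cons (nat_lit 1) (nat_lit 0x54555111550114550) Net.nil)))))))))))))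
noncomputable def n77 : List Net := [n77_0, n77_1, n77_2, n77_3]
noncomputable def st16 : List (ℕ × ℕ × ℕ) := [((nat_lit 15777), (nat_lit 39257), (nat_lit 0)), ((nat_lit 5279), (nat_lit 18147), (nat_lit 1)), ((nat_lit 5279), (nat_lit 36294), (nat_lit 2)), ((nat_lit 5279), (nat_lit 5279), (nat_lit 3)), ((nat_lit 10558), (nat_lit 10558), (nat_lit 5)), ((nat_lit 18147), (nat_lit 18147), (nat_lit 14)), ((nat_lit 133817), (nat_lit 133817), (nat_lit 17)), ((nat_lit 8391797), (nat_lit 8391797), (nat_lit 23))]
noncomputable def wsA : List (List ℕ) := [[],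
  [(nat_lit 1)],
  [(nat_lit 3)],
  [(nat_lit 1), (nat_lit 3)],
  [(nat_lit 5)],
  [(nat_lit 1), (nat_lit 5)],
  [(nat_lit 3), (nat_lit 5)],
  [(nat_lit 1), (nat_lit 3), (nat_lit 5)],
  [(nat_lit 7)],
  [(nat_lit 1), (nat_lit 7)],
  [(nat_lit 3), (nat_lit 7)],
  [(nat_lit 1), (nat_lit 3), (nat_lit 7)],
  [(nat_lit 5), (nat_lit 7)],
  [(nat_lit 1), (nat_lit 5), (nat_lit 7)],
  [(nat_lit 3), (nat_lit 5), (nat_lit 7)],
  [(nat_lit 1), (nat_lit 3), (nat_lit 5), (nat_lit 7)]]
noncomputable def EV : List ℕ := [(nat_lit 0x800400200100080040020010008004002001), (nat_lit 0x1800400200100080040020010008004002001), (nat_lit 0x2800400200100080040020010008004002001), (nat_lit 0x4800400200100080040020010008004002001), (nat_lit 0x8800400200100080040020010008004002001), (nat_lit 0x10800400200100080040020010008004002001), (nat_lit 0x20800400200100080040020010008004002001), (nat_lit 0x80940e23511a094068020010008004002001), (nat_lit 0x80b40d2371190a807c020010008004002001), (nat_lit 0x80440821712908804c020010008004002001), (nat_lit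 0x80740921512a0a4078020010008004002001)]
noncomputable def wcA : List (List ℕ) := [[],
  [],
  [(nat_lit 9), (nat_lit 11), (nat_lit 9), (nat_lit 12), (nat_lit 9)],
  [(nat_lit 9), (nat_lit 11)],
  [(nat_lit 9), (nat_lit 12), (nat_lit 9)],
  [(nat_lit 9), (nat_lit 11), (nat_lit 9), (nat_lit 12)],
  [(nat_lit 9), (nat_lit 12), (nat_lit 9), (nat_lit 11), (nat_lit 11), (nat_lit 9)],
  [(nat_lit 9), (nat_lit 12), (nat_lit 9), (nat_lit 11), (nat_lit 11), (nat_lit 9), (nat_lit 11)],
  [(nat_lit 9)],
  [(nat_lit 9), (nat_lit 12), (nat_lit 9), (nat_lit 11), (nat_lit 9), (nat_lit 11)],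
  [(nat_lit 9), (nat_lit 12)],
  [(nat_lit 9), (nat_lit 12), (nat_lit 9), (nat_lit 11), (nat_lit 9)],
  [(nat_lit 9), (nat_lit 12), (nat_lit 9), (nat_lit 11)],
  [(nat_lit 9), (nat_lit 11), (nat_lit 9)],
  [(nat_lit 9), (nat_lit 11), (nat_lit 9), (nat_lit 11)],
  [(nat_lit 9), (nat_lit 12), (nat_lit 9), (nat_lit 11), (nat_lit 11)]]
noncomputable def Y1 : ℕ := (nat_lit 0x202802808000802001801007805001)
noncomputable def Y2 : ℕ := (nat_lit 0x603005801000580d05a0d819811001)
noncomputable def Yp : ℕ := (nat_lit 0x1001001001001802001802001802001)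
noncomputable def relS : List (List ℕ × ℕ) := [([(nat_lit 0), (nat_lit 0)], (nat_lit 0)),
  ([(nat_lit 1), (nat_lit 1), (nat_lit 1), (nat_lit 1), (nat_lit 1), (nat_lit 1)], (nat_lit 0)),
  ([(nat_lit 0), (nat_lit 1), (nat_lit 0), (nat_lit 1), (nat_lit 0), (nat_lit 1), (nat_lit 0), (nat_lit 1), (nat_lit 0), (nat_lit 1)], (nat_lit 1)),
  ([(nat_lit 0), (nat_lit 1), (nat_lit 1), (nat_lit 1), (nat_lit 1), (nat_lit 1), (nat_lit 0), (nat_lit 1), (nat_lit 0), (nat_lit 1), (nat_lit 1), (nat_lit 1), (nat_lit 1), (nat_lit 1), (nat_lit 0), (nat_lit 1), (nat_lit 0), (nat_lit 1), (nat_lit 1), (nat_lit 1), (nat_lit 1), (nat_lit 1), (nat_lit 0), (nat_lit 1)], (nat_lit 0)),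
  ([(nat_lit 0), (nat_lit 1), (nat_lit 1), (nat_lit 1), (nat_lit 1), (nat_lit 0), (nat_lit 1), (nat_lit 1), (nat_lit 0), (nat_lit 1), (nat_lit 1), (nat_lit 1), (nat_lit 1), (nat_lit 0), (nat_lit 1), (nat_lit 1)], (nat_lit 1)),
  ([(nat_lit 0), (nat_lit 1), (nat_lit 1), (nat_lit 1), (nat_lit 0), (nat_lit 1), (nat_lit 1), (nat_lit 1), (nat_lit 0), (nat_lit 1), (nat_lit 1), (nat_lit 1), (nat_lit 0), (nat_lit 1), (nat_lit 1), (nat_lit 1)], (nat_lit 2))]
noncomputable def LS64 : List ℕ := [(nat_lit 0x1001001001001001001001001001001), (nat_lit 0x11c10c1781a01001001001001001801), (nat_lit 0x1121081501501001001001001401001), (nat_lit 0x10e1041281f01001001001001401801), (nat_lit 0x11552993316a1001001001201001001), (nat_lit 0x10952514a1ca1001001001201001801), (nat_lit 0x1071219631381001001001201401001), (nat_lit 0x11b12d11a1981001001001201401801), (nat_lit 0x10ad1796f1d61001001101001001001), (nat_lit 0x11691b1161741001001101001001801), (nat_lit 0x118d1f13e1861001001101001401001), (nat_lit 0x1049139471241001001101001401801),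 (nat_lit 0x11fd3e95d1be1001001101201001001), (nat_lit 0x10393292511c1001001101201001801), (nat_lit 0x10d93610c1ec1001001101201401001), (nat_lit 0x111d3a17414e1001001101201401801), (nat_lit 0x10490811a1381001081001001001001), (nat_lit 0x118d041631981001081001001001801), (nat_lit 0x11690014a16a1001081001001401001), (nat_lit 0x10ad0c1331ca1001081001001401801), (nat_lit 0x111d219281501001081001201001001), (nat_lit 0x10d92d1501f01001081001201001801), (nat_lit 0x1039299781001001081001201401001), (nat_lit 0x11fd251001a01001081001201401801), (nat_lit 0x10e11f1741ec1001081101001001001), (nat_lit 0x11211390c14e1001081101001001801), (nat_lit 0x11c1179251be1001081101001401001), (nat_lit 0x10011b15d11c1001081101001401801), (nat_lit 0x11b1361471861001081101201001001), (nat_lit 0x10713a13e1241001081101201001801), (nat_lit 0x10953e9161d61001081101201401001), (nat_lit 0x11553296f1741001081101201401801), (nat_lit 0x1039041161241041001001001001001), (nat_lit 0x11fd0816f1861041001001001001801), (nat_lit 0x111d0c1471741041001001001401001),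 (nat_lit 0x10d90013e1d61041001001001401801), (nat_lit 0x11692d12514e1041001001201001001), (nat_lit 0x10ad2195d1ec1041001001201001801), (nat_lit 0x10492517411c1041001001201401001), (nat_lit 0x118d2990c1be1041001001201401801), (nat_lit 0x1095139781f01041001101001001001), (nat_lit 0x11551f1001501041001101001001801), (nat_lit 0x11b11b1281a01041001101001401001), (nat_lit 0x1071179501001041001101001401801), (nat_lit 0x11c13a14a1981041001101201001001), (nat_lit 0x1001361331381041001101201001801), (nat_lit 0x10e13291a1ca1041001101201401001), (nat_lit 0x11213e96316a1041001101201401801), (nat_lit 0x10710c10c11c1041081001001001001), (nat_lit 0x11b1001741be1041081001001001801), (nat_lit 0x11550415d14e1041081001001401001), (nat_lit 0x1095081251ec1041081001001401801), (nat_lit 0x11212513e1741041081001201001001), (nat_lit 0x10e1299471d61041081001201001801), (nat_lit 0x10012d16f1241041081001201401001), (nat_lit 0x11c1219161861041081001201401801), (nat_lit 0x10d91b1631ca1041081101001001001), (nat_lit 0x111d1791a16a1041081101001001801),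 (nat_lit 0x11fd139331981041081101001401001), (nat_lit 0x10391f14a1381041081101001401801), (nat_lit 0x118d329501a01041081101201001001), (nat_lit 0x10493e9281001041081101201001801), (nat_lit 0x10ad3a1001f01041081101201401001), (nat_lit 0x1169361781501041081101201401801)]
noncomputable def LVs : List ℕ := [(nat_lit 0x1001001001001001001001001001001), (nat_lit 0x1001001001001001001001001001001), (nat_lit 0x1001001001001001001001001001001), (nat_lit 0x1001001001001001001001001001001), (nat_lit 0x1001001001001001001001001001001), (nat_lit 0x1001001001001001001001001001001), (nat_lit 0x1001001001001001001001001001001), (nat_lit 0x1001001001001001001001001001001), (nat_lit 0x1001001001001001001001001001001), (nat_lit 0x202802808000802001801007805001), (nat_lit 0x202802808000802001801007805001), (nat_lit 0x603005801000580d05a0d819811001), (nat_lit 0x1403804801000c02c02c0ac0d82d001), (nat_lit 0x1001001001001802001802001802001), (nat_lit 0x1001001001000803000803000803001), (nat_lit 0x1001001001001001001001001001001), (nat_lit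 0x1001001001001001001001001001001), (nat_lit 0x1001001001001001001001001001001), (nat_lit 0x1001001001001001001001001001001), (nat_lit 0x1001001001001001001001001001001), (nat_lit 0x1001001001001001001001001001001), (nat_lit 0x1001001001001001001001001001001), (nat_lit 0x1001001001001001001001001001001), (nat_lit 0x1001001001001001001001001001001), (nat_lit 0x1001001001001001001001001001001), (nat_lit 0x1001001001001001001001001001001), (nat_lit 0x1001001001001001001001001001001), (nat_lit 0x11c10c1781a01001001001001001801), (nat_lit 0x11c10c1781a01001001001001001801), (nat_lit 0x1121081501501001001001001401001), (nat_lit 0x1121081501501001001001001401001), (nat_lit 0x11552993316a1001001001201001001), (nat_lit 0x11552993316a1001001001201001001), (nat_lit 0x10ad1796f1d61001001101001001001), (nat_lit 0x10ad1796f1d61001001101001001001), (nat_lit 0x10490811a1381001081001001001001), (nat_lit 0x10490811a1381001081001001001001), (nat_lit 0x1039041161241041001001001001001), (nat_lit 0x1039041161241041001001001001001)]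
noncomputable def LVn : List ℕ := [(nat_lit 0x1001001001001001001001001001001), (nat_lit 0x1001001001001001001001001001001), (nat_lit 0x1001001001001001001001001001001), (nat_lit 0x1001001001001001001001001001001), (nat_lit 0x1001001001001001001001001001001), (nat_lit 0x1001001001001001001001001001001), (nat_lit 0x1001001001001001001001001001001), (nat_lit 0x1001001001001001001001001001001), (nat_lit 0x1001001001001001001001001001001), (nat_lit 0x202802808000802001801007805001), (nat_lit 0x202802808000802001801007805001), (nat_lit 0x603005811000580d05a0d819811001), (nat_lit 0x140780c801000c02c02c0ac0d82d001), (nat_lit 0x1001001001001802001802001802001), (nat_lit 0x1001001001000803000803000803001), (nat_lit 0x1001001001001001001001001001001), (nat_lit 0x1001001001001001001001001001001), (nat_lit 0x1001001001001001001001001001001), (nat_lit 0x1001001001001001001001001001001), (nat_lit 0x1001001001001001001001001001001), (nat_lit 0x1001001001001001001001001001001), (nat_lit 0x1001001001001001001001001001001), (nat_lit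 0x1001001001001001001001001001001), (nat_lit 0x1001001001001001001001001001001), (nat_lit 0x1001001001001001001001001001001), (nat_lit 0x1001001001001001001001001001001), (nat_lit 0x1001001001001001001001001001001), (nat_lit 0x11c10c1781a01001001001001001801), (nat_lit 0x11c10c1781a01001001001001001801), (nat_lit 0x1121081501501001001001001401001), (nat_lit 0x1121081501501001001001001401001), (nat_lit 0x11552993316a1001001001201001001), (nat_lit 0x11552993316a1001001001201001001), (nat_lit 0x10ad1796f1d61001001101001001001), (nat_lit 0x10ad1796f1d61001001101001001001), (nat_lit 0x10490811a1381001081001001001001), (nat_lit 0x10490811a1381001081001001001001), (nat_lit 0x1039041161241041001001001001001), (nat_lit 0x1039041161241041001001001001001)]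
noncomputable def wT : List (List ℕ) := [[(nat_lit 9), (nat_lit 12), (nat_lit 9), (nat_lit 11), (nat_lit 9), (nat_lit 13)],
  [(nat_lit 11), (nat_lit 11), (nat_lit 9), (nat_lit 11), (nat_lit 9), (nat_lit 12), (nat_lit 9), (nat_lit 12), (nat_lit 12), (nat_lit 14)],
  [(nat_lit 11), (nat_lit 9), (nat_lit 12), (nat_lit 9), (nat_lit 11), (nat_lit 11), (nat_lit 11), (nat_lit 9), (nat_lit 11), (nat_lit 9), (nat_lit 12), (nat_lit 13)],
  [(nat_lit 9), (nat_lit 12), (nat_lit 12), (nat_lit 9), (nat_lit 11), (nat_lit 9), (nat_lit 12), (nat_lit 12), (nat_lit 9), (nat_lit 11)],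
  [(nat_lit 1)],
  [(nat_lit 3)],
  [(nat_lit 5)],
  [(nat_lit 7)]]
noncomputable def LT : List ℕ := [(nat_lit 0x800400200100080040020010008004002001), (nat_lit 0xc004002003000c004002003000c004002003), (nat_lit 0xc004002003000c004002003000c004002003), (nat_lit 0xc0040640b80c0040000600b00c004024038), (nat_lit 0xc0040640b80c0040000600b00c004024038), (nat_lit 0x1c0240200300d0060000200301d026020030), (nat_lit 0x1c0240200300d0060000200301d026020030), (nat_lit 0x80040200100800400002001008004020010), (nat_lit 0x80040200100800400002001008004020010), (nat_lit 0x80940e23511a094068020010008004002001), (nat_lit 0x80940e23511a094068020010008004002001), (nat_lit 0x80b40d2371190a807c020010008004002001), (nat_lit 0x80b40d2371190a807c020010008004002001), (nat_lit 0x80440821712908804c020010008004002001), (nat_lit 0x80440821712908804c020010008004002001), (nat_lit 0x80740921512a0a4078020010008004002001), (nat_lit 0x80740921512a0a4078020010008004002001)]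
noncomputable def nT_0 : Net := (Net.cons (nat_lit 1) (nat_lit 5324864) (Net.cons (nat_lit 2) (nat_lit 1118208) (Net.cons (nat_lit 4) (nat_lit 66560) (Net.cons (nat_lit 8) (nat_lit 74) (Net.cons (nat_lit 16) (nat_lit 207) (Net.cons (nat_lit 8) (nat_lit 74) (Net.cons (nat_lit 4) (nat_lit 66816) (Net.cons (nat_lit 2) (nat_lit 1118208) (Net.cons (nat_lit 1) (nat_lit 5328960) Net.nil)))))))))
noncomputable def nT_1 : Net := (Net.cons (nat_lit 1) (nat_lit 5260352) (Net.cons (nat_lit 2) (nat_lit 1249280) (Net.cons (nat_lit 4) (nat_lit 198656) (Net.cons (nat_lit 8) (nat_lit 32) (Net.cons (nat_lit 16) (nat_lit 161) (Net.cons (nat_lit 8) (nat_lit 40) (Net.cons (nat_lit 4) (nat_lit 461824) (Net.cons (nat_lit 2) (nat_lit 1249808) (Net.cons (nat_lit 1) (nat_lit 5260352) Net.nil)))))))))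
noncomputable def nT_2 : Net := (Net.cons (nat_lit 1) (nat_lit 5324800) (Net.cons (nat_lit 2) (nat_lit 1122336) (Net.cons (nat_lit 4) (nat_lit 1536) (Net.cons (nat_lit 8) (nat_lit 64) (Net.cons (nat_lit 16) (nat_lit 117) (Net.cons (nat_lit 8) (nat_lit 66) (Net.cons (nat_lit 4) (nat_lit 67081) (Net.cons (nat_lit 2) (nat_lit 1122336) (Net.cons (nat_lit 1) (nat_lit 5328896) Net.nil)))))))))
noncomputable def nT_3 : Net := (Net.cons (nat_lit 1) (nat_lit 344128) (Net.cons (nat_lit 2) (nat_lit 3145728) (Net.cons (nat_lit 4) (nat_lit 2048) (Net.cons (nat_lit 8) (nat_lit 134) (Net.cons (nat_lit 16) (nat_lit 134) (Net.cons (nat_lit 8) (nat_lit 142) (Net.cons (nat_lit 4) (nat_lit 788482) (Net.cons (nat_lit 2) (nat_lit 3145744) (Net.cons (nat_lit 1) (nat_lit 1135680) Net.nil)))))))))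
noncomputable def nT_4 : Net := (Net.cons (nat_lit 1) (nat_lit 282624) (Net.cons (nat_lit 2) (nat_lit 13056) (Net.cons (nat_lit 4) (nat_lit 918528) (Net.cons (nat_lit 8) (nat_lit 131) (Net.cons (nat_lit 16) (nat_lit 195) (Net.cons (nat_lit 8) (nat_lit 83) (Net.cons (nat_lit 4) (nat_lit 919552) (Net.cons (nat_lit 2) (nat_lit 1061632) (Net.cons (nat_lit 1) (nat_lit 16704) Net.nil)))))))))
noncomputable def nT_5 : Net := (Net.cons (nat_lit 1) (nat_lit 345344) (Net.cons (nat_lit 2) (nat_lit 1057024) (Net.cons (nat_lit 4) (nat_lit 68608) (Net.cons (nat_lit 8) (nat_lit 15) (Net.cons (nat_lit 16) (nat_lit 15) (Net.cons (nat_lit 8) (nat_lit 223) (Net.cons (nat_lit 4) (nat_lit 68608) (Net.cons (nat_lit 2) (nat_lit 1057024) (Net.cons (nat_lit 1) (nat_lit 1393920) Net.nil)))))))))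
noncomputable def nT_6 : Net := (Net.cons (nat_lit 1) (nat_lit 4526080) (Net.cons (nat_lit 2) (nat_lit 65536) (Net.cons (nat_lit 4) (nat_lit 2048) (Net.cons (nat_lit 8) (nat_lit 25) (Net.cons (nat_lit 16) (nat_lit 153) (Net.cons (nat_lit 8) (nat_lit 25) (Net.cons (nat_lit 4) (nat_lit 199424) (Net.cons (nat_lit 2) (nat_lit 65552) (Net.cons (nat_lit 1) (nat_lit 4527104) Net.nil)))))))))
noncomputable def nT_7 : Net := (Net.cons (nat_lit 1) (nat_lit 1114432) (Net.cons (nat_lit 2) (nat_lit 200960) (Net.cons (nat_lit 4) (nat_lit 264448) (Net.cons (nat_lit 8) (nat_lit 46) (Net.cons (nat_lit 16) (nat_lit 46) (Net.cons (nat_lit 8) (nat_lit 254) (Net.cons (nat_lit 4) (nat_lit 329984) (Net.cons (nat_lit 2) (nat_lit 200960) (Net.cons (nat_lit 1) (nat_lit 1114432) Net.nil)))))))))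
noncomputable def nT : List Net := [nT_0, nT_1, nT_2, nT_3, nT_4, nT_5, nT_6, nT_7]
noncomputable def cT : List Lvl := [⟨(nat_lit 0), [[(nat_lit 1)],
  [(nat_lit 3)],
  [(nat_lit 5)],
  [(nat_lit 11)]], (nat_lit 1)⟩,
  ⟨(nat_lit 2), [[(nat_lit 11)],
  [(nat_lit 2), (nat_lit 3)],
  [(nat_lit 2), (nat_lit 5)]], (nat_lit 1)⟩,
  ⟨(nat_lit 1), [[(nat_lit 7)],
  [(nat_lit 9)],
  [(nat_lit 11)],
  [(nat_lit 2), (nat_lit 5)]], (nat_lit 1)⟩,
  ⟨(nat_lit 4), [[(nat_lit 9)],
  [(nat_lit 11)],
  [(nat_lit 13)],
  [(nat_lit 15)]], (nat_lit 1)⟩]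
noncomputable def pcT : List (List ℕ × List (List ℕ)) := [([], [[(nat_lit 1)], [(nat_lit 3)], [(nat_lit 5)], [(nat_lit 1), (nat_lit 7), (nat_lit 1)], [(nat_lit 5), (nat_lit 13), (nat_lit 5)], [(nat_lit 5), (nat_lit 11), (nat_lit 5)], [(nat_lit 5), (nat_lit 9), (nat_lit 5)]]),
  ([], [[(nat_lit 1), (nat_lit 3)], [(nat_lit 3)], [(nat_lit 3), (nat_lit 5), (nat_lit 3)], [(nat_lit 7), (nat_lit 9)], [(nat_lit 9)], [(nat_lit 9), (nat_lit 11)]]),
  ([], [[(nat_lit 1)], [(nat_lit 7)], [(nat_lit 5)], [(nat_lit 3)], [(nat_lit 9)]]),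
  ([], [[(nat_lit 1), (nat_lit 3), (nat_lit 7)], [(nat_lit 1), (nat_lit 5), (nat_lit 7)], [(nat_lit 3), (nat_lit 5), (nat_lit 7)], [(nat_lit 1), (nat_lit 3), (nat_lit 5)]]),
  ([], [[(nat_lit 1)], [(nat_lit 3)], [(nat_lit 5)]]),
  ([], [[(nat_lit 1)], [(nat_lit 3)]]),
  ([], [[(nat_lit 1)]]),
  ([], [])]
noncomputable def L72 : List ℕ := [(nat_lit 0x80040200100800400002001008004020010), (nat_lit 0x80040640dc080040000600d00800402401c), (nat_lit 0x8c04422213380c404002001008004020010), (nat_lit 0x8c044662df380c40400600d00800402401c), (nat_lit 0x90060200100801402002001008004020010), (nat_lit 0x94068653de180940e00600d00800402401c), (nat_lit 0x9806c671dd280540a00600d00800402401c), (nat_lit 0x9c06422213380d406002001008004020010), (nat_lit 0xc0040200300c0040000200300c004020030), (nat_lit 0xc0040640b80c0040000600b00c004024038), (nat_lit 0xc404c21733ec0c40800200300c004020030), (nat_lit 0xc404c653bb2c0c40800600b00c004024038), (nat_lit 0xc8044222311c0840400200300c004020030), (nat_lit 0xc8044662b91c0840400600b00c004024038),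 (nat_lit 0xcc04823532fc0440c00200300c004020030), (nat_lit 0xcc048671ba3c0440c00600b00c004024038), (nat_lit 0xf0060200300c0340200200300c004020030), (nat_lit 0xf406c21733ec0f40a00200300c004020030), (nat_lit 0xf8064222311c0b40600200300c004020030), (nat_lit 0xfc06823532fc0740e00200300c004020030), (nat_lit 0x1c0240200300d0060000200301d026020030), (nat_lit 0x1c624d21533fd2761e00200301d026020030), (nat_lit 0x1cb246222311d3862400200301d026020030), (nat_lit 0x1cd24b23732ed1f63a00200301d026020030), (nat_lit 0x1f0260200300d0360200200301d026020030), (nat_lit 0x1f626d21533fd2461c00200301d026020030), (nat_lit 0x1fb266222311d3b62600200301d026020030), (nat_lit 0x1fd26b23732ed1c63800200301d026020030), (nat_lit 0x380240200100b0060000200103b026020010), (nat_lit 0x38d246222133b1c62400200103b026020010), (nat_lit 0x390260200100b0160200200103b026020010), (nat_lit 0x39d266222133b1d62600200103b026020010), (nat_lit 0x800400200100080040020010008004002001), (nat_lit 0x800400640dc008004002401c00800400600d), (nat_lit 0x801402200100090060020010008004002001),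 (nat_lit 0x8024032021030bc054020010008004002001), (nat_lit 0x8034012021030ac074020010008004002001), (nat_lit 0x80440821712908804c020010008004002001), (nat_lit 0x804408653de108804c02401c00800400600d), (nat_lit 0x80540a21712909806c020010008004002001), (nat_lit 0x80640b21512a0b4058020010008004002001), (nat_lit 0x80740921512a0a4078020010008004002001), (nat_lit 0x80840c23511a084048020010008004002001), (nat_lit 0x80840c671dd208404802401c00800400600d), (nat_lit 0x80940e23511a094068020010008004002001), (nat_lit 0x80a40f2371190b805c020010008004002001), (nat_lit 0x80b40d2371190a807c020010008004002001), (nat_lit 0x80c40422213308c044020010008004002001), (nat_lit 0x80c404662df308c04402401c00800400600d), (nat_lit 0x80d40622213309c064020010008004002001), (nat_lit 0x80e4072201300b0050020010008004002001), (nat_lit 0x80f4052201300a0070020010008004002001), (nat_lit 0xb0060020010038024002001003b026002001), (nat_lit 0xb0160220010039026002001003b026002001), (nat_lit 0xb1c62422213338d24602001003b026002001), (nat_lit 0xb1d62622213339d26602001003b026002001),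 (nat_lit 0xc004002003000c004002003000c004002003), (nat_lit 0xc00400640b800c004002403800c00400600b), (nat_lit 0xc034022003000f006002003000c004002003), (nat_lit 0xc0740e653bb20fc06802403800c00400600b), (nat_lit 0xc084042223110c804402003000c004002003), (nat_lit 0xc08404662b910c804402403800c00400600b), (nat_lit 0xc0b4062223110f806402003000c004002003), (nat_lit 0xc0f40a671ba30f406c02403800c00400600b), (nat_lit 0xd006002003001c024002003001d026002003), (nat_lit 0xd016032023011db27602003001d026002003), (nat_lit 0xd026012023011eb25602003001d026002003), (nat_lit 0xd036022003001f026002003001d026002003), (nat_lit 0xd386242223111cb24602003001d026002003), (nat_lit 0xd396272203101d027002003001d026002003), (nat_lit 0xd3a6252203101e025002003001d026002003), (nat_lit 0xd3b6262223111fb26602003001d026002003)]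
noncomputable def SING : ℕ := (nat_lit 0x96696996699696693cc3c33cc33c3cc35aa5a55aa55a5aa5f00f0ff00ff0f00f6699996699666699cc3333cc33cccc33aa5555aa55aaaa5500ffff00ff0000ff6969969696966969c3c33c3c3c3cc3c3a5a55a5a5a5aa5a50f0ff0f0f0f00f0f99996666666699993333cccccccc33335555aaaaaaaa5555ffff00000000ffff6996699696699669c33cc33c3cc33cc3a55aa55a5aa55aa50ff00ff0f00ff00f996699666699669933cc33cccc33cc3355aa55aaaa55aa55ff00ff0000ff00ff96969696696969693c3c3c3cc3c3c3c35a5a5a5aa5a5a5a5f0f0f0f00f0f0f0f6666666699999999cccccccc33333333aaaaaaaa5555555500000000ffffffff6996966969969669c33c3cc3c33c3cc3a55a5aa5a55a5aa50ff0f00f0ff0f00f996666999966669933cccc3333cccc3355aaaa5555aaaa55ff0000ffff0000ff96966969969669693c3cc3c33c3cc3c35a5aa5a55a5aa5a5f0f00f0ff0f00f0f6666999966669999cccc3333cccc3333aaaa5555aaaa55550000ffff0000ffff96699669966996693cc33cc33cc33cc35aa55aa55aa55aa5f00ff00ff00ff00f6699669966996699cc33cc33cc33cc33aa55aa55aa55aa5500ff00ff00ff00ff6969696969696969c3c3c3c3c3c3c3c3a5a5a5a5a5a5a5a50f0f0f0f0f0f0f0f999999999999999933333333333333335555555555555555ffffffffffffffff)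
noncomputable def cA : List Lvl := [⟨(nat_lit 1), [[(nat_lit 1)],
  [(nat_lit 5)],
  [(nat_lit 7)]], (nat_lit 3)⟩,
  ⟨(nat_lit 2), [[(nat_lit 3), (nat_lit 6)],
  [(nat_lit 1), (nat_lit 6), (nat_lit 7), (nat_lit 2)]], (nat_lit 4)⟩,
  ⟨(nat_lit 0), [[(nat_lit 5), (nat_lit 3), (nat_lit 2), (nat_lit 6), (nat_lit 3)],
  [(nat_lit 2), (nat_lit 3), (nat_lit 8), (nat_lit 2), (nat_lit 5), (nat_lit 1)]], (nat_lit 1)⟩,
  ⟨(nat_lit 3), [[(nat_lit 1), (nat_lit 6), (nat_lit 6), (nat_lit 2)],
  [(nat_lit 5), (nat_lit 3), (nat_lit 2), (nat_lit 6), (nat_lit 3)],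
  [(nat_lit 1), (nat_lit 1), (nat_lit 5), (nat_lit 5), (nat_lit 1), (nat_lit 3)]], (nat_lit 3)⟩,
  ⟨(nat_lit 4), [[(nat_lit 1), (nat_lit 3), (nat_lit 2), (nat_lit 5), (nat_lit 5), (nat_lit 1), (nat_lit 1)],
  [(nat_lit 5), (nat_lit 2), (nat_lit 2), (nat_lit 6), (nat_lit 6), (nat_lit 1), (nat_lit 1), (nat_lit 6)],
  [(nat_lit 2), (nat_lit 3), (nat_lit 5), (nat_lit 1), (nat_lit 5), (nat_lit 5), (nat_lit 3), (nat_lit 2), (nat_lit 5), (nat_lit 1)]], (nat_lit 2)⟩,
  ⟨(nat_lit 5), [[(nat_lit 2), (nat_lit 3), (nat_lit 5), (nat_lit 1), (nat_lit 6), (nat_lit 1), (nat_lit 5), (nat_lit 3), (nat_lit 1), (nat_lit 5)]], (nat_lit 2)⟩]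

end CF.J4
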