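import Cfsg.Agent.J4.DC

/-! Data for the map `N(V) → M₂₄`. -/

set_option autoImplicit false
set_option maxRecDepth 1000000
set_option maxHeartbeats 0

namespace CF.J4
open CF.Comp CF.Dce

noncomputable def TA : ℕ := (nat_lit 0xaaf099a9d26bf4ce233e4303091c0d5da006b8fe56f600dae313a68020ac0007f)
noncomputable def TS : ℕ := (nat_lit 0x855000bc2000b350009d2000b5f000d33000c46000be4000981000c24000b81000d5d000d000009ae0009fc000d6f000b00000b6b000c62000ba6000c0100082b00080000087f)
noncomputable def TBm : ℕ := (nat_lit 0x1400d71fcadec01b5c6274d0041587f)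
noncomputable def TIm : ℕ := (nat_lit 0x18f13e23c5cc188d6c810e9383f1e38)
noncomputable def TBi : List ℕ := [(nat_lit 0), (nat_lit 2), (nat_lit 3), (nat_lit 4), (nat_lit 5), (nat_lit 6), (nat_lit 7), (nat_lit 8), (nat_lit 9), (nat_lit 10), (nat_lit 11)]
noncomputable def DM : ℕ := (nat_lit 0x6900000099000000a500000055080804044080804020102010020202020802401010800204020420408020080200009900a5000000006900000000005520400108010810800401802040100401804080402020101004080804010101011008400210048002200440022008800240022004081002400280041020088002400802100210800420020440088020028010080180200401402008014010040110020480400402200210400808802002201010200408040840408080010101015a0000000096000000006600000000aa0220400410020840800402100880200202800410400220040810024020088002f000cc3cf03c00cc003cccf000000000)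
noncomputable def ZM : ℕ := (nat_lit 0xffffff96ffffff66ffffff5affffffaaf7f7fbfbbf7f7fbfdfefdfeffdfdfdfdf7fdbfefef7ffdfbfdfbdfbf7fdff7fdffff66ff5affffffff96ffffffffffaadfbffef7fef7ef7ffbfe7fdfbfeffbfe7fbf7fbfdfdfefeffbf7f7fbfefefefeeff7bffdeffb7ffddffbbffddff77ffdbffddffbf7effdbffd7ffbefdff77ffdbff7fdeffdef7ffbdffdfbbff77fdffd7feff7fe7fdffbfebfdff7febfeffbfeeffdfb7fbffbfddffdefbff7f77fdffddfefefdffbf7fbf7bfbf7f7ffefefefea5ffffffff69ffffffff99ffffffff55fddfbffbeffdf7bf7ffbfdeff77fdffdfd7ffbefbffddffbf7effdbfdff77ffd0fff33c30fc3ff33ffc3330ffffffffe)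
noncomputable def nP0_0 : Net := (Net.cons (nat_lit 1) (nat_lit 348176) (Net.cons (nat_lit 2) (nat_lit 3158272) (Net.cons (nat_lit 4) (nat_lit 67072) (Net.cons (nat_lit 8) (nat_lit 2) (Net.cons (nat_lit 16) (nat_lit 39) (Net.cons (nat_lit 8) (nat_lit 4) (Net.cons (nat_lit 4) (nat_lit 790280) (Net.cons (nat_lit 2) (nat_lit 2228497) (Net.cons (nat_lit 1) (nat_lit 1049873) Net.nil)))))))))
noncomputable def nP0_1 : Net := (Net.cons (nat_lit 1) (nat_lit 16704) (Net.cons (nat_lit 2) (nat_lit 1188352) (Net.cons (nat_lit 4) (nat_lit 655360) (Net.cons (nat_lit 8) (nat_lit 8) (Net.cons (nat_lit 16) (nat_lit 188) (Net.cons (nat_lit 8) (nat_lit 196) (Net.cons (nat_lit 4) (nat_lit 918276) (Net.cons (nat_lit 2) (nat_lit 2306064) (Net.cons (nat_lit 1) (nat_lit 5574932) Net.nil)))))))))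
noncomputable def nP0_2 : Net := (Net.cons (nat_lit 1) (nat_lit 5313792) (Net.cons (nat_lit 2) (nat_lit 3158784) (Net.cons (nat_lit 4) (nat_lit 65536) (Net.cons (nat_lit 8) (nat_lit 132) (Net.cons (nat_lit 16) (nat_lit 245) (Net.cons (nat_lit 8) (nat_lit 148) (Net.cons (nat_lit 4) (nat_lit 985088) (Net.cons (nat_lit 2) (nat_lit 3158273) (Net.cons (nat_lit 1) (nat_lit 4461584) Net.nil)))))))))
noncomputable def nP0_3 : Net := (Net.cons (nat_lit 1) (nat_lit 282880) (Net.cons (nat_lit 2) (nat_lit 2163200) (Net.cons (nat_lit 4) (nat_lit 590080) (Net.cons (nat_lit 8) (nat_lit 13) (Net.cons (nat_lit 16) (nat_lit 255) (Net.cons (nat_lit 8) (nat_lit 133) (Net.cons (nat_lit 4) (nat_lit 396810) (Net.cons (nat_lit 2) (nat_lit 3150609) (Net.cons (nat_lit 1) (nat_lit 282880) Net.nil)))))))))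
noncomputable def nP0_4 : Net := (Net.cons (nat_lit 1) (nat_lit 263440) (Net.cons (nat_lit 2) (nat_lit 135200) (Net.cons (nat_lit 4) (nat_lit 395264) (Net.cons (nat_lit 8) (nat_lit 60) (Net.cons (nat_lit 16) (nat_lit 189) (Net.cons (nat_lit 8) (nat_lit 60) (Net.cons (nat_lit 4) (nat_lit 593417) (Net.cons (nat_lit 2) (nat_lit 3281699) (Net.cons (nat_lit 1) (nat_lit 5328965) Net.nil)))))))))
noncomputable def nP0_5 : Net := (Net.cons (nat_lit 1) (nat_lit 282880) (Net.cons (nat_lit 2) (nat_lit 3145728) (Net.cons (nat_lit 4) (nat_lit 394240) (Net.cons (nat_lit 8) (nat_lit 12) (Net.cons (nat_lit 16) (nat_lit 206) (Net.cons (nat_lit 8) (nat_lit 12) (Net.cons (nat_lit 4) (nat_lit 394752) (Net.cons (nat_lit 2) (nat_lit 3145985) (Net.cons (nat_lit 1) (nat_lit 282880) Net.nil)))))))))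
noncomputable def nP0_6 : Net := (Net.cons (nat_lit 1) (nat_lit 5510148) (Net.cons (nat_lit 2) (nat_lit 1179648) (Net.cons (nat_lit 4) (nat_lit 65536) (Net.cons (nat_lit 8) (nat_lit 34) (Net.cons (nat_lit 16) (nat_lit 35) (Net.cons (nat_lit 8) (nat_lit 34) (Net.cons (nat_lit 4) (nat_lit 461312) (Net.cons (nat_lit 2) (nat_lit 1179906) (Net.cons (nat_lit 1) (nat_lit 5510212) Net.nil)))))))))
noncomputable def nP0_7 : Net := (Net.cons (nat_lit 1) (nat_lit 282944) (Net.cons (nat_lit 4) (nat_lit 853760) (Net.cons (nat_lit 8) (nat_lit 37) (Net.cons (nat_lit 16) (nat_lit 255) (Net.cons (nat_lit 8) (nat_lit 133) (Net.cons (nat_lit 4) (nat_lit 462080) (Net.cons (nat_lit 2) (nat_lit 3289891) (Net.cons (nat_lit 1) (nat_lit 282944) Net.nil))))))))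
noncomputable def nP0_8 : Net := (Net.cons (nat_lit 1) (nat_lit 1114368) (Net.cons (nat_lit 2) (nat_lit 69904) (Net.cons (nat_lit 4) (nat_lit 328704) (Net.cons (nat_lit 8) (nat_lit 72) (Net.cons (nat_lit 16) (nat_lit 249) (Net.cons (nat_lit 8) (nat_lit 48) (Net.cons (nat_lit 4) (nat_lit 199433) (Net.cons (nat_lit 2) (nat_lit 3215635) (Net.cons (nat_lit 1) (nat_lit 4478037) Net.nil)))))))))
noncomputable def nP0 : List Net := [nP0_0, nP0_1, nP0_2, nP0_3, nP0_4, nP0_5, nP0_6, nP0_7, nP0_8]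
noncomputable def nP : List Net := [.nil, .nil, .nil, .nil, nP0_0, nP0_1, nP0_2, .nil, .nil, .nil, .nil, .nil, .nil,
  nP0_3, nP0_4, nP0_5, nP0_6, nP0_7, nP0_8]

end CF.J4
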