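import Cfsg.Agent.J4.UC
import Cfsg.Agent.Bt.Blk.M22C
import Cfsg.Agent.Char.ZStarCor
import Cfsg.Agent.Coprime.Abelian
import Cfsg.Agent.Fus.Small

/-! The centraliser of an element of order three. -/

set_option autoImplicit false
set_option maxRecDepth 1000000
set_option linter.unusedSectionVars false

namespace CF.J4
open Cfsg Subgroup CF.Loc CF.Even CF.LX CF.Comp CF.Dce CF.Comp.Mat CF.Dce.J4
open CF.Leech (pt ofMask idx toMask)
open scoped Pointwise commutatorElement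

open Bt Bt.Blk22 in
theorem M22_inv {a d : Equiv.Perm GolayPt} (ha : a ∈ Spor.M22) (hd : d ∈ Spor.M22) (oa : orderOf a = 2)
    (od : orderOf d = 2) : ∃ x ∈ Spor.M22, x⁻¹ * a * x = d := by
  have hE := exact_sub_top (Exact.fresh dExact k5 (fun w _ => ev_mem dMem w) h1 (m := 2) rfl h2 card_M22 h3).1
    (slp_mem (Bt.evs_mem (ws := ws) (fun w _ => ev_mem dMem w)) [] 2)
  obtain ⟨w, hw, x, e⟩ := clOK_spec hE k5 Nat.prime_two (m := 3465) card_M22 (by decide) pS2 fF2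
    ((orderOf_mk a ha).trans oa)
  obtain ⟨w', hw', y, e'⟩ := clOK_spec hE k5 Nat.prime_two (m := 3465) card_M22 (by decide) pS2 fF2
    ((orderOf_mk d hd).trans od)
  rw [List.mem_singleton.1 hw] at e
  rw [List.mem_singleton.1 hw', ← e] at e'
  refine ⟨x⁻¹ * y, (x⁻¹ * y).2, ?_⟩
  have := congrArg (fun u : Spor.M22 => (y⁻¹ * u * y).1) e'.symm
  simpa [mul_assoc] using this

theorem M22_perfect : ⁅Spor.M22, Spor.M22⁆ = Spor.M22 := by
  haveI := isSimpleGroup_M22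
  rw [← map_subtype_commutator]
  rcases IsSimpleGroup.eq_bot_or_eq_top_of_normal (commutator Spor.M22) inferInstance with e | e
  · have := commutator_eq_bot_iff_le_centralizer.1 e
    letI : CommGroup Spor.M22 := ⟨fun a c => (this (mem_top c) a (mem_top a))⟩
    exact absurd (card_M22 ▸ IsSimpleGroup.prime_card (α := Spor.M22)) (by norm_num)
  · rw [e, ← MonoidHom.range_eq_map, range_subtype]

variable {G : Type*} [Group G]

theorem comm_zp {p g k : G} (hg : g ∈ 𝐍(zpowers p)) (hk : k ∈ 𝐍(zpowers p)) : ⁅g, k⁆ ∈ 𝐂₁(p) := by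
  obtain ⟨i, hi⟩ := mem_zpowers_iff.1 (norm_mem hg (mem_zpowers p))
  obtain ⟨j, hj⟩ := mem_zpowers_iff.1 (norm_mem hk (mem_zpowers p))
  have e : ∀ (x : G) (n : ℤ), x⁻¹ * p ^ n * x = (x⁻¹ * p * x) ^ n := fun x n => by
    simpa using (conj_zpow (a := x⁻¹) (b := p) (i := n)).symm
  have : k⁻¹ * (g⁻¹ * p * g) * k = g⁻¹ * (k⁻¹ * p * k) * g := by
    conv_lhs => rw [← hi, e, ← hj]
    conv_rhs => rw [← hj, e, ← hi]
    rw [← zpow_mul, ← zpow_mul, mul_comm]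
  refine mem_c1.2 ?_
  calc _ = g * k * (g⁻¹ * (k⁻¹ * p * k) * g) * g⁻¹ * k⁻¹ := by rw [commutatorElement_def]; group
    _ = _ := by rw [← this, commutatorElement_def]; group

theorem c1_norm {p : G} : 𝐂₁(p) ≤ 𝐍(zpowers p) := centralizer_zpowers p ▸ centralizer_le_normalizer _

namespace JT
variable [Finite G] {E : Subgroup G} {z p : G} {Φ : G → Equiv.Perm GolayPt} {π : G → ℕ} {f : ℕ → G}
  (h : JT E z p Φ π f)
include h

local notation "K" => 𝐂₁(z) ⊓ 𝐂₁(p)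
local notation "Z" => zpowers (p * z)

theorem pz : Commute p z := mem_c1.1 h.pH

theorem ord6 : orderOf (p * z) = 6 := by
  rw [h.pz.orderOf_mul_eq_mul_orderOf_of_coprime (by rw [h.p3, h.ord]; norm_num), h.p3, h.ord]

theorem z_Z : z ∈ Z := by
  have := pow_mem (mem_zpowers (p * z)) 3
  rwa [h.pz.mul_pow, h.pp, one_mul, pow_succ, pow_two, h.zz, one_mul] at this

theorem p_Z : p ∈ Z := (mul_mem_cancel_right h.z_Z).1 (mem_zpowers _)

theorem ker_np {g : G} (hg : g ∈ NP z p) (e : Φ g = 1) : g ∈ Z := by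
  obtain ⟨i, -, x, hx, rfl⟩ := h.of_ker hg.1 e
  exact mul_mem (zpowers_le.2 h.z_Z (h.en hx ((mul_mem_cancel_right (pow_mem (show p ∈ NP z p from
    ⟨h.pH, le_normalizer (mem_zpowers p)⟩) i)).1 hg))) (pow_mem h.p_Z i)

theorem Z_K : Z ≤ K :=
  zpowers_le.2 (mul_mem ⟨h.pH, mem_c1.2 rfl⟩ ⟨mem_c1.2 rfl, mem_c1.2 h.pz.symm⟩)

theorem Z_c {u g : G} (hu : u ∈ Z) (hg : g ∈ K) : Commute u g := by
  obtain ⟨i, rfl⟩ := hu
  exact (Commute.mul_left (mem_c1.1 hg.2).symm (mem_c1.1 hg.1).symm).zpow_left i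

theorem Z_phi {u : G} (hu : u ∈ Z) : Φ u = 1 := (h.kr u (h.Z_K hu).1).2
  (zpowers_le.2 (mul_mem (mem_sup_right (mem_zpowers p)) (mem_sup_left h.mem)) hu)

theorem Z_inv {u : G} (hu : u ∈ Z) (e : u * u = 1) : ∃ j < 2, u = z ^ j := by
  obtain ⟨i, rfl⟩ := (mem_powers_iff_mem_zpowers.2 hu)
  simp only at e ⊢
  rw [← mul_one (_ ^ i), ← e, ← pow_two, ← pow_succ', ← pow_mul, mul_comm i, pow_mul, h.pz.mul_pow, h.pp, one_mul,
    ← pow_mul]
  exact h.fr.mem_zp.1 (pow_mem (mem_zpowers z) _)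

theorem K_np : K ≤ NP z p := inf_le_inf_left _ c1_norm

theorem im_np {σ : Equiv.Perm GolayPt} (hσ : σ ∈ S2) : ∃ g ∈ NP z p, Φ g = σ := by
  obtain ⟨g, hg, rfl⟩ := h.sur σ hσ
  obtain ⟨c, h1, e, h2, rfl⟩ := h.dec hg
  exact ⟨c, h1, by rw [h.hom _ h1.1 _ (h.le_c1 h2), h.phi_E h2, mul_one]⟩

theorem div_Z {g k : G} (hg : g ∈ NP z p) (hk : k ∈ NP z p) (e : Φ g = Φ k) : g⁻¹ * k ∈ Z :=
  h.ker_np (mul_mem (inv_mem hg) hk) (by rw [h.hom _ (inv_mem hg.1) _ hk.1, h.hom.inv hg.1, e, inv_mul_cancel])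

theorem imK : h.hom.im K inf_le_left = Spor.M22 := by
  have h1 : Spor.M22 ≤ h.hom.im K inf_le_left := by
    rw [← M22_perfect]
    refine commutator_le.2 fun a ha c hc => ?_
    obtain ⟨g, hg, rfl⟩ := h.im_np (M22_le_S2 ha)
    obtain ⟨k, hk, rfl⟩ := h.im_np (M22_le_S2 hc)
    refine h.hom.mem_im.2 ⟨⁅g, k⁆, mem_inf.2 ⟨(mem_inf.1 (mul_mem (mul_mem (mul_mem hg hk) (inv_mem hg))
      (inv_mem hk))).1, comm_zp hg.2 hk.2⟩, ?_⟩
    rw [commutatorElement_def, h.hom _ (mul_mem (mul_mem hg.1 hk.1) (inv_mem hg.1)) _ (inv_mem hk.1),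
      h.hom.conj hg.1 hk.1, h.hom.inv hk.1, commutatorElement_def]
  have h2 : h.hom.im K inf_le_left ≤ S2 := fun _ hx => have ⟨g, hg, e⟩ := h.hom.mem_im.1 hx; e ▸ h.im g hg.1
  obtain ⟨m, hm⟩ := card_dvd_of_le h1
  have h3 := card_dvd_of_le h2
  rw [card_M22] at hm
  rw [card_S2, hm, show 887040 = 443520 * 2 by norm_num, Nat.mul_dvd_mul_iff_left (by norm_num),
    Nat.dvd_prime Nat.prime_two] at h3
  rcases h3 with rfl | rfl
  · exact (Comp.eq_of_le_of_card_le h1 (by rw [hm, card_M22])).symm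
  · obtain ⟨g, hg, e⟩ := h.hom.mem_im.1 (Comp.eq_of_le_of_card_le h2 (by rw [hm, card_S2]) ▸ memA 3)
    have n := h.np 3 (by norm_num)
    have := mem_c1.1 ((mul_mem_cancel_left (inv_mem hg)).1
      (h.Z_K (h.div_Z (h.K_np hg) n (e.trans (h.phi 3 (by norm_num)).symm)))).2
    exact absurd (h.fr.uniq' (h.fr.cd.mul' (h.ac 3 (by norm_num)) h.acp) (this ▸ h.fr.cd.mul' h.acp
      (h.ac 3 (by norm_num))) (mm_lt t12 _ _) (mm_lt t12 _ _)) (by decide +kernel)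

theorem phi_K {g : G} (hg : g ∈ K) : Φ g ∈ Spor.M22 := h.imK ▸ h.hom.mem_im.2 ⟨g, hg, rfl⟩

theorem sur_K {σ : Equiv.Perm GolayPt} (hσ : σ ∈ Spor.M22) : ∃ g ∈ K, Φ g = σ := h.hom.mem_im.1 (h.imK ▸ hσ)

theorem cen_K {g : G} (hg : g ∈ K) : g ∈ 𝐂(K) ↔ g ∈ Z := by
  refine ⟨fun e => h.ker_np (h.K_np hg) (S2_cent (h.im g hg.1) fun σ hσ => ?_), fun e k hk => (h.Z_c e hk).symm⟩
  obtain ⟨k, hk, rfl⟩ := h.sur_K hσ
  rw [← h.hom _ hk.1 _ hg.1, e k hk, h.hom _ hg.1 _ hk.1]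

theorem center_K : center ↥K = (Z).subgroupOf K := by
  ext ⟨g, hg⟩
  rw [mem_subgroupOf, ← h.cen_K hg, mem_center_iff]
  exact ⟨fun e k hk => congrArg Subtype.val (e ⟨k, hk⟩), fun e k => Subtype.ext (e k.1 k.2)⟩

theorem quot_K : Nonempty (↥K ⧸ center ↥K ≃* Spor.M22) := by
  have e : center ↥K = (h.hom.mono (T := K) inf_le_left).hom.ker := by
    rw [h.center_K]
    exact ext fun g => ⟨fun e => h.Z_phi e, fun e => h.ker_np (h.K_np g.2) e⟩
  exact ⟨(QuotientGroup.quotientMulEquivOfEq e).trans ((QuotientGroup.quotientKerEquivRange _).trans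
    (MulEquiv.subgroupCongr h.imK))⟩

theorem perf_K (h1 : Z ≤ ⁅K, K⁆) : ⁅K, K⁆ = K := by
  have h2 : ⁅K, K⁆ ≤ K := commutator_le_self _
  refine le_antisymm h2 fun g hg => ?_
  have : Spor.M22 ≤ h.hom.im ⁅K, K⁆ (h2.trans inf_le_left) := by
    rw [← M22_perfect]
    refine commutator_le.2 fun a ha c hc => ?_
    obtain ⟨g, hg, rfl⟩ := h.sur_K ha
    obtain ⟨k, hk, rfl⟩ := h.sur_K hc
    refine h.hom.mem_im.2 ⟨⁅g, k⁆, commutator_mem_commutator hg hk, ?_⟩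
    rw [commutatorElement_def, h.hom _ (mul_mem (mul_mem hg.1 hk.1) (inv_mem hg.1)) _ (inv_mem hk.1),
      h.hom.conj hg.1 hk.1, h.hom.inv hk.1, commutatorElement_def]
  obtain ⟨d, hd, e⟩ := h.hom.mem_im.1 (this (h.phi_K hg))
  exact (mul_mem_cancel_left (inv_mem hd)).1 (h1 (h.div_Z (h.K_np (h2 hd)) (h.K_np hg) e))

end JT

namespace JK
variable [Finite G] {E : Subgroup G} {z p : G} {Φ : G → Equiv.Perm GolayPt} {π : G → ℕ} {f : ℕ → G}
  {V : Subgroup G} {ν : G → ℕ} {κ : Equiv.Perm GolayPt → G} (h : JK E z p Φ π f V ν κ)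
include h

local notation "b" => gB E π p f
local notation "k" => kq κ
local notation "K" => 𝐂₁(z) ⊓ 𝐂₁(p)
local notation "Z" => zpowers (p * z)

theorem vc_K {c : ℕ} (e : c < 2048 ∧ vm 11 c (eQ [13]) = c) : vc V ν c ∈ K :=
  ⟨h.V_le (h.co.vc e.1).1, mem_c1.2 (h.k_p ▸ comm_of_cj (h.k_fix e))⟩

theorem k_K {w : List ℕ} (e : vm 11 1 (eQ w) = 1 ∧ sameW nQ 24 5 (lapp w [13]) (lapp [13] w) = true) : k w ∈ K :=
  ⟨mem_c1.2 (h.vc_eq h.zV h.νz ▸ comm_of_cj (h.k_fix ⟨by norm_num, e.1⟩)).symm, mem_c1.2 (h.k_p ▸ h.k_tw e.2)⟩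

theorem vc_mul {c d : ℕ} (hc : c < 2048) (hd : d < 2048) : vc V ν c * vc V ν d = vc V ν (c ^^^ d) :=
  (h.vc_eq (mul_mem (h.co.vc hc).1 (h.co.vc hd).1)
    (by rw [h.co.mul _ (h.co.vc hc).1 _ (h.co.vc hd).1, (h.co.vc hc).2, (h.co.vc hd).2])).symm

theorem z_der : z ∈ ⁅K, K⁆ := by
  have e : ∀ {c w}, (c < 2048 ∧ vm 11 c (eQ [13]) = c) → (vm 11 1 (eQ w) = 1 ∧
      sameW nQ 24 5 (lapp w [13]) (lapp [13] w) = true) → vc V ν (vm 11 c (eQ w) ^^^ c) ∈ ⁅K, K⁆ := fun e1 e2 => by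
    have := commutator_mem_commutator (inv_mem (h.k_K e2)) (h.vc_K e1)
    rwa [commutatorElement_def, inv_inv, h.k_fix ⟨e1.1, rfl⟩, h.ea.inv (h.co.vc e1.1).1,
      h.vc_mul (vm_lt _ _ _) e1.1] at this
  have := mul_mem (e (c := 128) (w := [11, 9]) (by decide +kernel) (by decide +kernel))
    (e (c := 1280) (w := [11, 11]) (by decide +kernel) (by decide +kernel))
  rwa [h.vc_mul (by decide +kernel) (by decide +kernel), show vm 11 128 (eQ [11, 9]) ^^^ 128 ^^^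
    (vm 11 1280 (eQ [11, 11]) ^^^ 1280) = 1 by decide +kernel, h.vc_eq h.zV h.νz] at this

theorem phi_vc {c : ℕ} (hc : c < 2048) : Φ (vc V ν c) = ev φB (nth [] wsA (c / 128)) := by
  obtain ⟨h1, j, hj, e⟩ := h.wsA_mem (show c / 128 < 16 by omega)
  have h2 := h.co.vc hc
  have := h.phi_E (h.mem_E (mul_mem h1 h2.1) (by
    rw [h.co.mul _ h1 _ h2.1, e, h2.2]
    exact (by decide +kernel : ∀ c < 2048, ∀ j < 2, 128 * (c / 128) ^^^ j ^^^ c < 128) c hc j hj))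
  rw [← h.phi_ev, ← h.ea.inv h1, h.hom.inv (h.V_le h1)]
  rw [h.hom _ (h.V_le h1) _ (h.V_le h2.1)] at this
  exact eq_inv_of_mul_eq_one_right this

theorem isol {g : G} (hg : g ∈ 𝐂₁(p)) (c : Commute z (g * z * g⁻¹)) : g * z * g⁻¹ = z := by
  have zK : z ∈ 𝐂₁(p) := mem_c1.2 h.pz.symm
  have yK : g * z * g⁻¹ ∈ K := mem_inf.2 ⟨mem_c1.2 c.symm, mul_mem (mul_mem hg zK) (inv_mem hg)⟩
  have yy : g * z * g⁻¹ * (g * z * g⁻¹) = 1 := by rw [conj_mul, h.zz, mul_one, mul_inv_cancel]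
  by_contra n
  have o : ∀ y ∈ K, y * y = 1 → Φ y ≠ 1 → orderOf (Φ y) = 2 := fun y hy e e1 =>
    orderOf_eq_prime (by rw [pow_two, ← h.hom _ hy.1 _ hy.1, e, h.hom.one]) e1
  have vK := h.vc_K (c := 128) (by decide +kernel)
  have vV := h.co.vc (c := 128) (by norm_num)
  obtain ⟨x, hx, e⟩ := M22_inv (h.phi_K yK) (h.phi_K vK) (o _ yK yy fun e => by
    obtain ⟨j, hj, e1⟩ := h.Z_inv (h.ker_np (h.K_np yK) e) yy
    interval_cases j
    · exact h.z_ne (conj_eq_one_iff.1 (e1.trans (pow_zero z)))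
    · exact n (e1.trans (pow_one z))) (o _ vK (h.co.sq vV.1) (by
      rw [h.phi_vc (by norm_num)]; exact rB.ne_of_sameW (w := []) (by norm_num) (show sameW nB 24 5 _ _ = false by decide +kernel)))
  obtain ⟨m, hm, rfl⟩ := h.sur_K hx
  have y1 := mul_mem (mul_mem (inv_mem hm) yK) hm
  have h1 := h.div_Z (h.K_np vK) (h.K_np y1) (by rw [h.hom.conj' hm.1 yK.1, e])
  obtain ⟨j, hj, e1⟩ := h.Z_inv h1 (by
    have := (h.Z_c h1 vK).eq
    calc _ = (vc V ν 128)⁻¹ * (m⁻¹ * (g * z * g⁻¹ * (g * z * g⁻¹)) * m) * (vc V ν 128)⁻¹ := by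
          rw [← mul_inv_cancel_right (_ * _ * (_ * _)) (vc V ν 128), mul_assoc _ _ (vc V ν 128), this]; group
      _ = 1 := by rw [yy, h.ea.inv vV.1, mul_one, inv_mul_cancel, mul_one, h.co.sq vV.1])
  rw [inv_mul_eq_iff_eq_mul] at e1
  have h2 := h.mul_zp vV.1 hj
  have h3 := (h.zt h2.1).1 (e1 ▸ (isConj_cj' g z).trans (isConj_cj m _))
  rw [h2.2, vV.2] at h3
  obtain rfl : j = 0 := (by decide +kernel : ∀ j < 2, ZM.testBit (128 ^^^ j) = true → j = 0) j hj h3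
  rw [pow_zero, mul_one, ← h.k_fix (w := mw) (c := 1) (by decide +kernel), h.vc_eq h.zV h.νz] at e1
  have u : k mw * m⁻¹ * g ∈ 𝐂₁(z) := mem_c1.2 (by
    calc _ = k mw * (m⁻¹ * (g * z * g⁻¹) * m) * m⁻¹ * g := by group
      _ = _ := by rw [e1]; group)
  have e2 : k (lapp (winv (winv mw)) (lapp [13] (winv mw))) = k mw * m⁻¹ * g * p * (k mw * m⁻¹ * g)⁻¹ := by
    rw [h.k_cj, h.k_inv, h.k_p, mul_assoc _ g, mem_c1.1 hg, mul_assoc _ m⁻¹, ← mul_assoc m⁻¹,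
      mem_c1.1 (inv_mem hm).2]
    group
  have e3 := congrArg Φ (h.k_fix (w := lapp (winv (winv mw)) (lapp [13] (winv mw))) (c := 128) (d := 1956)
    (by decide +kernel))
  rw [e2, h.hom.conj' (mul_mem (mul_mem u h.pH) (inv_mem u)) vK.1, h.hom.conj u h.pH, h.phi_p, mul_one,
    mul_inv_cancel, inv_one, one_mul, mul_one, h.phi_vc (by norm_num), h.phi_vc (by norm_num)] at e3
  exact rB.ne_of_sameW (by norm_num) (show sameW nB 24 5 _ _ = false by decide +kernel) e3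

theorem odd_le {O : Subgroup G} (o : Odd (Nat.card O)) (n : 𝐂₁(p) ≤ 𝐍(O)) : O ≤ 𝐂₁(z) := by
  have v1 := h.co.vc (c := 129) (by norm_num)
  have v2 := h.co.vc (c := 512) (by norm_num)
  have o2 : ∀ v ∈ V, ν v ≠ 0 → orderOf v = 2 := fun v hv e =>
    orderOf_eq_prime ((pow_two v).trans (h.co.sq hv)) fun e1 => e (e1 ▸ h.co.one)
  have n1 : vc V ν 129 ≠ vc V ν 512 := fun e => absurd (v1.2.symm.trans (e ▸ v2.2)) (by norm_num)
  have o3 := o2 _ v1.1 (by rw [v1.2]; norm_num)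
  have o4 := o2 _ v2.1 (by rw [v2.2]; norm_num)
  have A := Invol.isKleinFour_closure o3 o4 (h.co.comm v1.1 v2.1) n1
  haveI := isMulCommutative_of_le_centralizer (Invol.klein_le_centralizer A)
  refine Coprime.le_of_forall_centralizer_le _ O (Invol.klein_not_isCyclic A) (((closure_le _).2 ?_).trans n)
    (by rw [A.card_four]; exact (Nat.coprime_two_left.2 o).pow_left 2) _ fun a ha a1 x hx => ?_
  · rintro _ (rfl | rfl)
    exacts [(h.vc_K (by decide +kernel)).2, (h.vc_K (by decide +kernel)).2]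
  · have : a ∈ V ∧ DM.testBit (ν a) = true := by
      rcases (Invol.klein_mem_iff A (subset_closure (.inl rfl)) (subset_closure (.inr rfl))
        (ne_one_of_orderOf_eq o3) (ne_one_of_orderOf_eq o4) n1).1 ha with e | e | e | e
      · exact (a1 e).elim
      · rw [e, v1.2]; exact ⟨v1.1, by decide +kernel⟩
      · rw [e, v2.2]; exact ⟨v2.1, by decide +kernel⟩
      · rw [e, h.co.mul _ v1.1 _ v2.1, v1.2, v2.2]; exact ⟨mul_mem v1.1 v2.1, by decide +kernel⟩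
    have h1 := mul_mem (norm_mem' (h.cent_d this.1 this.2 hx.2) h.zV) (inv_mem h.zV)
    have h2 : x * z * x⁻¹ * z⁻¹ ∈ O := by
      have := mul_mem hx.1 (norm_mem' (n (mem_c1.2 h.pz.symm)) (inv_mem hx.1))
      rwa [← mul_assoc, ← mul_assoc] at this
    have h3 : x * z * x⁻¹ * z⁻¹ = 1 := Invol.eq_one_of_odd_of_mul_self (o.of_dvd_nat (orderOf_dvd_natCard O h2))
      (h.co.sq h1)
    exact mem_c1.2 (by rw [← one_mul (z * x), ← h3]; group)

theorem cent_p : 𝐂₁(p) ≤ 𝐂₁(z) := fun g hg => by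
  have zK : z ∈ 𝐂₁(p) := mem_c1.2 h.pz.symm
  obtain ⟨N, hN, o, e⟩ := Char.inZStar_of_isolated (u := (⟨z, zK⟩ : 𝐂₁(p))) ⟨(orderOf_mk _ _).trans h.ord,
    fun x c => Subtype.ext (h.isol x.2 (congrArg Subtype.val c))⟩
  have := h.odd_le (O := N.map (𝐂₁(p)).subtype) (by rwa [card_subtype]) (le_normalizer_map_subtype N)
    (mem_map_of_mem _ (e ⟨g, hg⟩))
  refine mem_c1.2 (mul_inv_eq_iff_eq_mul.1 (h.isol hg ?_))
  have h1 : z⁻¹ * (z * g * z⁻¹ * g⁻¹) ∈ 𝐂₁(z) := mul_mem (inv_mem (mem_c1.2 rfl)) this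
  have := (mem_c1.1 (inv_mem h1)).symm
  rwa [show (z⁻¹ * (z * g * z⁻¹ * g⁻¹))⁻¹ = g * z * g⁻¹ by group] at this

theorem norm_p : 𝐍(zpowers p) ≤ 𝐂₁(z) := fun g hg => by
  have e : (K : Subgroup G) = 𝐂(zpowers p) := by rw [centralizer_zpowers, inf_eq_right.2 h.cent_p]
  have n : g ∈ 𝐍(K) := e ▸ normalizer_le_normalizer_centralizer _ hg
  obtain ⟨j, hj, e1⟩ := h.Z_inv ((h.cen_K (norm_mem' n (h.Z_K h.z_Z))).1 (norm_mem'
    (normalizer_le_normalizer_centralizer _ n) ((h.cen_K (h.Z_K h.z_Z)).2 h.z_Z)))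
    (by rw [conj_mul, h.zz, mul_one, mul_inv_cancel])
  interval_cases j
  · exact (h.z_ne (conj_eq_one_iff.1 (e1.trans (pow_zero z)))).elim
  · exact mem_c1.2 (mul_inv_eq_iff_eq_mul.1 (e1.trans (pow_one z)))

theorem k_ne {u w : List ℕ} (e : sameW nQ 24 5 u w = false) : k u ≠ k w := fun e1 =>
  rQ.ne_of_sameW (by norm_num) e (by rw [← h.k_pi, e1, h.k_pi])

theorem card_G : Nat.card G = 86775571046077562880 :=
  have ⟨e⟩ := h.iso
  (Nat.card_congr e.toEquiv).trans card_L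

theorem cube_eq {x y : G} {j : ℕ} (hj : j < 2) (e : x = y * z ^ j) (hy : y ∈ 𝐂₁(z)) (h1 : x ^ 3 = 1)
    (h2 : y ^ 3 = 1) : x = y := by
  interval_cases j
  · rwa [pow_zero, mul_one] at e
  · rw [e, pow_one, (show Commute y z from mem_c1.1 hy).mul_pow, h2, one_mul, pow_succ, pow_two, h.zz, one_mul] at h1
    exact (h.z_ne h1).elim

local notation "F" => FF E π p f
local notation "r" => fun i => kq κ (nth [] W3 i)
local notation "R" => clo (fun i => kq κ (nth [] W3 i)) [[1], [3], [5]]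

theorem eqv3 : Bt.Eqv r eq3 := fun u w e => by rw [← h.k_subst, ← h.k_subst, kq_eq κ e]

theorem nev3 : Bt.Nev r ne3 := fun u w e => by
  rw [← h.k_subst, ← h.k_subst]
  refine h.k_ne ?_
  revert e
  rw [ne3, Bt.difW]
  cases sameW nQ 24 5 (subst W3 u) (subst W3 w) <;> simp

theorem pcR : Bt.Pc r 3 [[1], [3], [5]] := h.eqv3.pc chk_pc3

theorem expR {g : G} (hg : g ∈ R) : g ^ 3 = 1 := by
  obtain ⟨w, rfl, e⟩ := h.pcR.all three_ne_zero chk_ex3 g hg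
  exact (ev_wpow _ _ _).symm.trans (h.eqv3 _ _ e)

theorem r_mem (w : List ℕ) : ev r w ∈ R := ev_mem (fun i => by
  by_cases hi : i < 3
  · rw [← ev_single r]; exact ev_mem_clo _ (by interval_cases i <;> simp)
  · rw [nth_of_le _ (show W3.length ≤ i from not_lt.1 hi), h.k_nil]; exact one_mem _) w

theorem r_p : ev r [5] = p := (ev_single r 2).trans h.k_p

theorem R_H : R ≤ 𝐂₁(z) := clo_le.2 fun w hw => by
  simp only [List.mem_cons, List.not_mem_nil, or_false] at hw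
  rcases hw with rfl | rfl | rfl
  exacts [ev_single r 0 ▸ h.memH (h.k_th (chk_U3 0 (by norm_num)).1),
    ev_single r 1 ▸ h.memH (h.k_th (chk_U3 1 (by norm_num)).1), h.r_p.symm ▸ h.pH]

theorem n_cj {i j : ℕ} (hi : i < 2) (hj : j < 3) :
    (ev F (nth [] wN i))⁻¹ * k (nth [] W3 j) * ev F (nth [] wN i) = ev r (nth [] (nth [] uN i) j) := by
  obtain ⟨e1, e2⟩ := (chk_uN i hi).2 j hj
  obtain ⟨l, hl, e⟩ := h.cj_th (h.cd.ev h.tbF _) (h.k_th (chk_U3 j hj).1) (h.k_th e1) e2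
  rw [h.k_subst] at e
  refine h.cube_eq hl e (h.R_H (h.r_mem _)) ?_ (h.expR (h.r_mem _))
  have := h.expR (ev_single r j ▸ h.r_mem [2 * j + 1])
  have e3 := @conj_pow _ _ 3 (ev F (nth [] wN i))⁻¹ (k (nth [] W3 j))
  rwa [inv_inv, this, mul_one, inv_mul_cancel] at e3

theorem cls3 {x : G} (o : orderOf x = 3) : IsConj p x := by
  have inj : ∀ σ ∈ M24, κ σ = 1 → σ = 1 := fun σ hσ e => by rw [← h.sp.pi σ hσ, e, h.pi_hom.one]
  have c : Nat.card (h.sp.hom.im M24 le_rfl) = 244823040 := by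
    have := h.sp.hom.card_eq (le_refl M24) fun σ => show σ ∈ (⊥ : Subgroup _) ↔ _ from
      ⟨fun e => mem_bot.1 e ▸ ⟨one_mem _, h.sp.hom.one⟩, fun e => inj σ e.1 e.2⟩
    rwa [card_M24, card_bot, mul_one, eq_comm] at this
  obtain ⟨y, -, e⟩ := Bt.exists_conj_mem (P := h.sp.hom.im M24 le_rfl) (H := ⊤) (m := 354442012672) le_top Nat.prime_three
    (by rw [card_top, h.card_G, c]) (by norm_num) (mem_top x) (a := 1) (by rw [pow_one, ← o, pow_orderOf_eq_one])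
  obtain ⟨σ, hσ, e⟩ := h.sp.hom.mem_im.1 e
  have o3 : ∀ σ (hσ : σ ∈ M24), orderOf (κ σ) = 3 → orderOf (⟨σ, hσ⟩ : M24) = 3 := fun σ hσ o =>
    Leech.M.ord_mk hσ (orderOf_eq_prime (inj _ (pow_mem hσ 3) (by rw [h.sp.hom.pow hσ, ← o, pow_orderOf_eq_one]))
      fun e => by rw [e, h.sp.hom.one, orderOf_one] at o; exact absurd o (by norm_num))
  have cj : ∀ {σ ρ : M24} {τ}, (∃ x, x * σ * x⁻¹ = τ) → (∃ x, x * ρ * x⁻¹ = τ) → IsConj (κ σ) (κ ρ) := by
    rintro σ ρ _ ⟨a, rfl⟩ ⟨c, e⟩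
    refine isConj_iff.2 ⟨κ (c⁻¹ * a).1, ?_⟩
    rw [← h.sp.hom.conj (c⁻¹ * a).2 σ.2]
    have := congrArg (fun y : M24 => (c⁻¹ * y * c).1) e.symm
    exact congrArg κ (by simpa [mul_assoc] using this)
  have ok : ∀ w, sameW nQ 24 5 (wpow w 3) [] = true → sameW nQ 24 5 w [] = false →
      orderOf (⟨_, evQ_mem w⟩ : M24) = 3 := fun w e1 e2 => Leech.M.ord_mk _ (orderOf_eq_prime
    ((ev_wpow _ _ _).symm.trans (eqQ e1)) (rQ.ne_of_sameW (by norm_num) e2))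
  have fa : ∀ w j, j < 24 → fixW nQ j w = true → (Leech.M.fx (ev (el nQ) w)).card ≠ 0 := fun w j hj e e1 =>
    Leech.M.fx_empty.1 e1 (pt j) (rQ.fixW hj e)
  have a1 := Leech.M.cls3a (ok [13] (by decide +kernel) (by decide +kernel)) (fa _ 1 (by norm_num) (by decide +kernel))
  have a2 := Leech.M.cls3a (ok (nth [] W3 0) (by decide +kernel) (by decide +kernel))
    (fa _ 1 (by norm_num) (by decide +kernel))
  have a3 := Leech.M.cls3b (ok (subst W3 [3, 3]) (by decide +kernel) (by decide +kernel)) (Leech.M.fx_empty.2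
    (Leech.forall_pt.2 fun i hi e => rQ.not_fixW hi
      ((by decide +kernel : ∀ i < 24, fixW nQ i (subst W3 [3, 3]) = false) i hi) e))
  refine IsConj.trans ?_ (e ▸ isConj_cj' y x).symm
  rw [← h.k_p]
  rcases Leech.M.cls3 (o3 σ hσ (e ▸ (Invol.orderOf_conj _ _).trans o)) with ⟨-, e1⟩ | ⟨-, e1⟩
  · exact cj a1 e1
  · refine ((cj a1 a2).trans ?_).trans (cj a3 e1)
    have := isConj_cj (ev F (nth [] wN 0)) (k (nth [] W3 0))
    rwa [h.n_cj (by norm_num) (by norm_num), ← h.k_subst] at this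

theorem ncomm : ¬ IsMulCommutative R := fun c => h.nev3 [1, 3] [3, 1] (by decide +kernel) (by
  have := congrArg Subtype.val (c.is_comm.comm ⟨_, h.r_mem [1]⟩ ⟨_, h.r_mem [3]⟩)
  exact (ev_append r [1] [3]).trans (this.trans (ev_append r [3] [1]).symm))

theorem card_R : Nat.card R = 27 := by
  obtain ⟨n, hn⟩ := (h.pcR.pgroup three_ne_zero).exists_card_eq
  have := h.pcR.card_le three_ne_zero
  rw [hn, Nat.pow_le_pow_iff_right (by norm_num)] at this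
  by_contra c
  have : n ≤ 2 := by
    by_contra c'
    exact c (by rw [hn, show n = 3 from le_antisymm this (by omega)]; rfl)
  refine h.ncomm ⟨⟨?_⟩⟩
  interval_cases n
  · haveI := (Nat.card_eq_one_iff_unique.1 hn).1
    exact fun a c => Subsingleton.elim _ _
  · haveI := isCyclic_of_prime_card (p := 3) (hn.trans (pow_one 3))
    exact IsCyclic.commGroup.mul_comm
  · exact (IsPGroup.commGroupOfCardEqPrimeSq hn).mul_comm

theorem R_p : R ≤ 𝐂₁(p) := clo_le.2 fun w _ => ev_mem (H := 𝐂₁(p)) (fun i => by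
  by_cases hi : i < 3
  · exact mem_c1.2 (h.k_p ▸ h.k_tw ((by decide +kernel : ∀ i < 3, sameW nQ 24 5 (lapp (nth [] W3 i) [13])
      (lapp [13] (nth [] W3 i)) = true) i hi))
  · rw [nth_of_le _ (show W3.length ≤ i from not_lt.1 hi), h.k_nil]; exact one_mem _) w

theorem norm_R : 𝐍(R) ≤ NP z p := fun g hg => by
  have : g ∈ 𝐍(zpowers p) := by
    obtain ⟨w, hw, e⟩ := h.pcR.cen h.eqv3 h.nev3 three_ne_zero chk_ce3 (norm_mem hg (h.r_p ▸ h.r_mem [5]))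
      fun w _ => by
        calc _ = g⁻¹ * (g * ev r w * g⁻¹ * p) * g := by group
          _ = _ := by rw [mem_c1.1 (h.R_p (norm_mem' hg (h.r_mem w)))]; group
    refine mem_norm_zp (e ▸ ?_)
    simp only [List.mem_cons, List.not_mem_nil, or_false] at hw
    rcases hw with rfl | rfl | rfl
    exacts [one_mem _, h.r_p.symm ▸ mem_zpowers p, by
      rw [show [5, 5] = [5] ++ [5] from rfl, ev_append, h.r_p]; exact mul_mem (mem_zpowers p) (mem_zpowers p)]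
  exact ⟨h.norm_p this, this⟩

theorem phi_r (u : List ℕ) : Φ (ev r u) = ev (el nA) (subst U3 u) := by
  rw [ev_subst]
  refine h.hom.ev' (fun i => h.R_H (ev_single r i ▸ h.r_mem _)) (fun i => ?_) u
  by_cases hi : i < 3
  · rw [← h.hom.ev' h.memF h.phiF]
    exact h.phi_eq (h.k_th (chk_U3 i hi).1) ((chk_U3 i hi).2 ▸ h.cd.ev h.tbF _)
  · rw [nth_of_le _ (show W3.length ≤ i from not_lt.1 hi), nth_of_le _ (show U3.length ≤ i from not_lt.1 hi), h.k_nil,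
      h.hom.one, ev_nil]

theorem mem15 {q : GolayPt} : q ∈ D0.set m15 ↔ ∃ x ∈ R, Φ x ≠ 1 ∧ Φ x q = q := by
  obtain ⟨j, hj, rfl⟩ := D0_full q
  rw [Dom.pt_mem_set hj]
  refine ⟨fun e => ?_, fun ⟨x, hx, e1, e2⟩ => ?_⟩
  · obtain ⟨u, -, e1, e2⟩ := chk_m15 j hj e
    exact ⟨_, h.r_mem u, h.phi_r u ▸ ⟨rA.ne_of_sameW (by norm_num) e1, rA.fixW hj e2⟩⟩
  · obtain ⟨u, rfl, e⟩ := h.pcR.all three_ne_zero chk_m9 x hx
    rw [h.phi_r] at e1 e2
    rcases brec_or.1 e with e | e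
    · exact (e1 (eqA e)).elim
    · rcases brec_or.1 (allFrom_zero.1 e j hj) with e | e
      · exact tb_eq _ _ ▸ e
      · exact (rA.not_fixW hj (by revert e; cases fixW nA j (subst U3 u) <;> simp) e2).elim

theorem card_NR : Nat.card 𝐍(R) = 864 := by
  have hT : 𝐍(R) ≤ 𝐂₁(z) := h.norm_R.trans inf_le_left
  have c := h.hom.card_eq hT fun g => show g ∈ Z ↔ _ from ⟨fun e => ⟨centralizer_le_normalizer _ fun x hx =>
    (h.Z_c e ⟨h.R_H hx, h.R_p hx⟩).symm, h.Z_phi e⟩, fun e => h.ker_np (h.norm_R e.1) e.2⟩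
  have h1 : Nat.card (h.hom.im _ hT) ≤ 144 := Bt.card_le_of_std exA (by norm_num) k5 (D0_full.faithful ⊤) le_top
    (fun _ _ => trivial) (fun w _ => ev_mem memA w) chk_T15 (fun _ hx => have ⟨g, hg, e⟩ := h.hom.mem_im.1 hx;
      e ▸ h.im g (hT hg)) (fun _ _ _ hw => absurd hw List.not_mem_nil) fun σ hσ x hx => by
    obtain ⟨g, hg, rfl⟩ := h.hom.mem_im.1 hσ
    rw [List.mem_singleton.1 hx]
    have key : ∀ g ∈ 𝐍(R), ∀ q ∈ D0.set m15, Φ g q ∈ D0.set m15 := fun g hg q hq => by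
      obtain ⟨x, hx, e1, e2⟩ := h.mem15.1 hq
      refine h.mem15.2 ⟨_, norm_mem' hg hx, ?_⟩
      rw [h.hom.conj (hT hg) (h.R_H hx)]
      exact ⟨fun e => e1 (conj_eq_one_iff.1 e), by rw [Equiv.Perm.mul_apply, Equiv.Perm.mul_apply, inv_ap, e2]⟩
    ext q
    rw [Set.mem_smul_set_iff_inv_smul_mem, ← h.hom.inv (hT hg)]
    refine ⟨fun e => ?_, key _ (inv_mem hg) q⟩
    have := key g hg _ e
    rwa [h.hom.inv (hT hg), Equiv.Perm.smul_def, ap_inv] at this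
  have h2 : 144 ≤ Nat.card (h.hom.im _ hT) := chk_cN.2.1 ▸ rA.chain_le (by norm_num) chk_cN.1 fun w hw => by
    rw [chk_cN.2.2, lmap_eq, List.mem_map] at hw
    obtain ⟨u, -, rfl⟩ := hw
    rw [ev_subst]
    refine ev_mem (fun i => h.hom.mem_im.2 ⟨ev F (nth [] wN i), ?_, h.hom.ev' h.memF h.phiF _⟩) u
    by_cases hi : i < 2
    · refine inv_mem_iff.1 (Bt.mem_norm_of_gens fun w hw => ?_)
      simp only [List.mem_cons, List.not_mem_nil, or_false] at hw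
      rw [inv_inv]
      rcases hw with rfl | rfl | rfl
      exacts [ev_single r 0 ▸ h.n_cj hi zero_lt_three ▸ h.r_mem _, ev_single r 1 ▸ h.n_cj hi (by norm_num : 1 < 3) ▸
        h.r_mem _, ev_single r 2 ▸ h.n_cj hi (by norm_num : 2 < 3) ▸ h.r_mem _]
    · rw [nth_of_le _ (show wN.length ≤ i from not_lt.1 hi)]; exact one_mem _
  rw [c, le_antisymm h1 h2, Nat.card_zpowers, h.ord6]

theorem syl3 {S : Subgroup G} (h1 : IsSyl 3 S ⊤) (h2 : S ≤ 𝐂₁(z)) : IsExtraspecial 3 S ∧ Nat.card S = 27 ∧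
    Monoid.exponent S = 3 ∧ 𝐍(S) ≤ 𝐂₁(z) ∧ Nat.card 𝐍(S) = 864 := by
  haveI : Fact (Nat.Prime 3) := ⟨Nat.prime_three⟩
  have c : Nat.card S = 27 := by rw [h1.card_eq, card_top, h.card_G]; decide +kernel
  obtain ⟨g, hg, e⟩ := (h1.mono h2 le_top).exists_cj_le (h.pcR.pgroup three_ne_zero) h.R_H
  obtain rfl := Comp.eq_of_le_of_card_le e (by rw [c, card_cj, h.card_R])
  have i := (R).equivMapOfInjective (MulAut.conj g).toMonoidHom (MulAut.conj g).injective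
  refine ⟨isExtraspecial_of_equiv (Fus.extraspecial_of_cube h.card_R h.ncomm) i, c, ?_, ?_, ?_⟩
  · rw [← Monoid.exponent_eq_of_mulEquiv i]
    haveI : Nontrivial R := Finite.one_lt_card_iff_nontrivial.1 (by rw [h.card_R]; norm_num)
    exact (Monoid.exponent_eq_prime_iff Nat.prime_three).2 fun x hx =>
      orderOf_eq_prime (Subtype.ext (h.expR x.2)) hx
  · rw [← cj_normalizer]; exact cj_le_of_mem hg (h.norm_R.trans inf_le_left)
  · rw [← cj_normalizer, card_cj, h.card_NR]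

end JK

end CF.J4
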