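import Cfsg.Agent.J4.R
import Cfsg.Agent.Bt.Pc3

/-! Data and checks for the elements of order three. -/

set_option autoImplicit false
set_option maxRecDepth 1000000
set_option maxHeartbeats 0

namespace CF.J4
open CF.Comp CF.Dce CF.Bt

noncomputable def mw : List ℕ := [(nat_lit 39), (nat_lit 31), (nat_lit 12), (nat_lit 42), (nat_lit 9)]
noncomputable def W3 : List (List ℕ) := [[(nat_lit 11), (nat_lit 11)],
  [(nat_lit 9), (nat_lit 11), (nat_lit 11), (nat_lit 9), (nat_lit 11), (nat_lit 11), (nat_lit 9), (nat_lit 11)],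
  [(nat_lit 13)]]
noncomputable def U3 : List (List ℕ) := [[(nat_lit 4), (nat_lit 2), (nat_lit 5), (nat_lit 1), (nat_lit 6), (nat_lit 4), (nat_lit 2), (nat_lit 6), (nat_lit 1), (nat_lit 4), (nat_lit 2), (nat_lit 9)],
  [(nat_lit 3), (nat_lit 2), (nat_lit 5), (nat_lit 2), (nat_lit 2), (nat_lit 6), (nat_lit 1), (nat_lit 6), (nat_lit 2), (nat_lit 2), (nat_lit 3), (nat_lit 9)],
  [(nat_lit 9)]]
noncomputable def wN : List (List ℕ) := [[(nat_lit 1), (nat_lit 6), (nat_lit 1), (nat_lit 5), (nat_lit 4), (nat_lit 1), (nat_lit 1), (nat_lit 1)],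
  [(nat_lit 7), (nat_lit 3), (nat_lit 6), (nat_lit 2), (nat_lit 5), (nat_lit 5), (nat_lit 1), (nat_lit 3)]]
noncomputable def uN : List (List (List ℕ)) := [[[(nat_lit 3), (nat_lit 3)], [(nat_lit 1), (nat_lit 5), (nat_lit 5)], [(nat_lit 5)]],
  [[(nat_lit 3), (nat_lit 3), (nat_lit 5)], [(nat_lit 1), (nat_lit 3), (nat_lit 1)], [(nat_lit 5), (nat_lit 5)]]]
noncomputable def m15 : ℕ := (nat_lit 13531247)
noncomputable def usN : List (List ℕ) := [[(nat_lit 1)],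
  [(nat_lit 3)],
  [(nat_lit 1), (nat_lit 3)],
  [(nat_lit 2), (nat_lit 4), (nat_lit 1), (nat_lit 4)],
  [(nat_lit 1), (nat_lit 3), (nat_lit 1), (nat_lit 3)],
  [(nat_lit 2), (nat_lit 4), (nat_lit 1), (nat_lit 4)],
  [(nat_lit 2), (nat_lit 2), (nat_lit 4), (nat_lit 1), (nat_lit 4), (nat_lit 1)]]
noncomputable def cN : List Lvl := [⟨1, [[(nat_lit 1), (nat_lit 6), (nat_lit 1), (nat_lit 5), (nat_lit 4), (nat_lit 1), (nat_lit 1), (nat_lit 1)], [(nat_lit 7), (nat_lit 3), (nat_lit 6), (nat_lit 2), (nat_lit 5), (nat_lit 5), (nat_lit 1), (nat_lit 3)]], 3⟩, ⟨0, [[(nat_lit 1), (nat_lit 6), (nat_lit 1), (nat_lit 5), (nat_lit 4), (nat_lit 1), (nat_lit 1), (nat_lit 1), (nat_lit 7), (nat_lit 3), (nat_lit 6), (nat_lit 2), (nat_lit 5), (nat_lit 5), (nat_lit 1), (nat_lit 3)], [(nat_lit 2), (nat_lit 2), (nat_lit 2), (nat_lit 3), (nat_lit 6), (nat_lit 2), (nat_lit 5), (nat_lit 2), (nat_lit 4), (nat_lit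 2), (nat_lit 6), (nat_lit 6), (nat_lit 1), (nat_lit 5), (nat_lit 4), (nat_lit 8), (nat_lit 1), (nat_lit 6), (nat_lit 1), (nat_lit 5), (nat_lit 4), (nat_lit 1), (nat_lit 1), (nat_lit 1), (nat_lit 4), (nat_lit 2), (nat_lit 6), (nat_lit 6), (nat_lit 1), (nat_lit 5), (nat_lit 4), (nat_lit 8)]], 1⟩, ⟨2, [[(nat_lit 1), (nat_lit 6), (nat_lit 1), (nat_lit 5), (nat_lit 4), (nat_lit 1), (nat_lit 1), (nat_lit 1), (nat_lit 7), (nat_lit 3), (nat_lit 6), (nat_lit 2), (nat_lit 5), (nat_lit 5), (nat_lit 1), (nat_lit 3), (nat_lit 1), (nat_lit 6), (nat_lit 1), (nat_lit 5), (nat_lit 4), (nat_lit 1), (nat_lit 1), (nat_lit 1), (nat_lit 7), (nat_lit 3), (nat_lit 6), (nat_lit 2), (nat_lit 5), (nat_lit 5), (nat_lit 1), (nat_lit 3)], [(nat_lit 2), (nat_lit 2), (nat_lit 2), (nat_lit 3), (nat_lit 6), (nat_lit 2), (nat_lit 5), (nat_lit 2), (nat_lit 4), (nat_lit 2), (nat_lit 6), (nat_lit 6), (nat_lit 1),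 (nat_lit 5), (nat_lit 4), (nat_lit 8), (nat_lit 1), (nat_lit 6), (nat_lit 1), (nat_lit 5), (nat_lit 4), (nat_lit 1), (nat_lit 1), (nat_lit 1), (nat_lit 4), (nat_lit 2), (nat_lit 6), (nat_lit 6), (nat_lit 1), (nat_lit 5), (nat_lit 4), (nat_lit 8)]], 1⟩, ⟨3, [[(nat_lit 2), (nat_lit 2), (nat_lit 2), (nat_lit 3), (nat_lit 6), (nat_lit 2), (nat_lit 5), (nat_lit 2), (nat_lit 2), (nat_lit 2), (nat_lit 2), (nat_lit 3), (nat_lit 6), (nat_lit 2), (nat_lit 5), (nat_lit 2), (nat_lit 4), (nat_lit 2), (nat_lit 6), (nat_lit 6), (nat_lit 1), (nat_lit 5), (nat_lit 4), (nat_lit 8), (nat_lit 1), (nat_lit 6), (nat_lit 1), (nat_lit 5), (nat_lit 4), (nat_lit 1), (nat_lit 1), (nat_lit 1), (nat_lit 4), (nat_lit 2), (nat_lit 6), (nat_lit 6), (nat_lit 1), (nat_lit 5), (nat_lit 4), (nat_lit 8), (nat_lit 1), (nat_lit 6), (nat_lit 1), (nat_lit 5), (nat_lit 4), (nat_lit 1), (nat_lit 1), (nat_lit 1)]], 1⟩]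
noncomputable def T15_1 : Tr := (.focus 2 (.op 2 0 (.xor 0 1 (.focus 0 (.base (nat_lit 8388604) (.focus 0 (.sym [[3], [5]] (.cons [] 2 4 (.focus 6 (.focus 2 (.xor 3 0 (.focus 0 (.base (nat_lit 8388609) (.focus 0 (.sym [[5], [7]] (.cons [] 1 2 (.focus 9 (.xor 6 1 (.focus 0 (.focus 3 (.focus 6 (.sym [[5]] (.cons [] 1 1 (.xor 8 11 (.focus 0 (.cons [] 0 1 (.focus 13 (.focus 3 (.base (nat_lit 147488) (.focus 0 (.cons [] 0 1 .triv (.cons [1] 0 0 (.base (nat_lit 64) (.and 0 16 (.dead0 0))) (.cons [2] 0 0 (.base (nat_lit 128) (.and 0 16 (.dead0 0))) .nil))))))) (.cons [6] 0 0 (.base (nat_lit 294976) (.and 0 14 (.dead 0))) (.cons [5] 0 0 (.base (nat_lit 294976) (.and 0 14 (.dead 0))) (.cons [2] 0 0 (.base (nat_lit 294976) (.and 0 14 (.dead 0))) (.cons [2, 5] 0 0 (.base (nat_lit 294976) (.and 0 14 (.dead 0))) (.cons [3, 6] 0 0 (.base (nat_lit 294976) (.and 0 14 (.dead 0))) (.cons [1, 3]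 0 0 (.base (nat_lit 2097920) (.and 0 14 (.dead0 0))) (.cons [5, 2] 0 0 (.base (nat_lit 294976) (.and 0 14 (.dead 0))) (.cons [6, 1] 0 0 (.base (nat_lit 294976) (.and 0 14 (.dead 0))) .nil))))))))))) (.cons [4] 0 0 (.base (nat_lit 8241104) (.and 0 12 (.dead 0))) (.cons [1] 1 0 (.base (nat_lit 8241104) (.and 0 12 (.dead 0))) (.cons [1, 3] 1 0 (.xor 8 11 (.focus 0 (.cons [] 0 0 (.base (nat_lit 294976) (.and 0 14 (.dead 0))) (.cons [2] 0 0 (.base (nat_lit 2097920) (.and 0 14 (.dead0 0))) (.cons [6] 0 0 (.base (nat_lit 294976) (.and 0 14 (.dead 0))) (.cons [5] 0 0 (.base (nat_lit 2097920) (.and 0 14 (.dead0 0))) (.cons [3, 2] 0 0 (.base (nat_lit 294976) (.and 0 14 (.dead 0))) (.cons [5, 2] 0 0 (.base (nat_lit 294976) (.and 0 14 (.dead 0))) (.cons [3, 6] 0 0 (.base (nat_lit 294976) (.and 0 14 (.dead 0))) (.cons [2, 5] 0 0 (.base (nat_lit 294976) (.and 0 14 (.dead 0))) (.cons [1, 3]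 0 0 (.base (nat_lit 294976) (.and 0 14 (.dead 0))) .nil))))))))))) (.cons [4, 4] 1 0 (.base (nat_lit 8241104) (.and 0 12 (.dead 0))) (.cons [5, 3, 1] 0 0 (.base (nat_lit 8241104) (.and 0 12 (.dead 0))) (.cons [4, 1, 3] 0 0 (.base (nat_lit 8241104) (.and 0 12 (.dead 0))) .nil))))))))))))) .nil)))))))) (.cons [3] 3 0 (.focus 6 (.focus 2 (.xor 3 0 (.focus 0 (.base (nat_lit 8388609) (.focus 0 (.cons [] 0 0 (.focus 9 (.xor 6 1 (.focus 0 (.focus 3 (.focus 6 (.sym [[5]] (.cons [] 1 0 (.base (nat_lit 8241104) (.and 0 12 (.dead 0))) (.cons [4] 0 0 (.base (nat_lit 8241104) (.and 0 12 (.dead 0))) (.cons [11, 3] 1 0 (.base (nat_lit 8241104) (.and 0 12 (.dead 0))) (.cons [8, 4] 1 0 (.base (nat_lit 8241104) (.and 0 12 (.dead 0))) (.cons [8, 3] 1 0 (.base (nat_lit 8241104) (.and 0 12 (.dead 0))) (.cons [5, 3, 1] 0 0 (.base (nat_lit 8241104) (.and 0 12 (.dead 0))) (.cons [4, 1, 3] 0 0 (.base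 (nat_lit 8241104) (.and 0 12 (.dead 0))) .nil))))))))))))) (.cons [3] 0 0 (.focus 9 (.xor 6 1 (.focus 0 (.focus 3 (.focus 6 (.sym [[5]] (.cons [1] 1 0 (.base (nat_lit 8241104) (.and 0 12 (.dead 0))) (.cons [3, 3] 0 0 (.base (nat_lit 8241104) (.and 0 12 (.dead 0))) (.cons [7, 3] 1 0 (.base (nat_lit 8241104) (.and 0 12 (.dead 0))) (.cons [11, 3] 0 0 (.base (nat_lit 8241104) (.and 0 12 (.dead 0))) (.cons [1, 3] 1 0 (.base (nat_lit 8241104) (.and 0 12 (.dead 0))) (.cons [3, 1] 0 0 (.base (nat_lit 8241104) (.and 0 12 (.dead 0))) (.cons [4, 1] 1 0 (.base (nat_lit 8241104) (.and 0 12 (.dead 0))) .nil))))))))))))) .nil)))))))) (.cons [1] 0 0 (.focus 6 (.focus 2 (.xor 3 0 (.focus 0 (.base (nat_lit 8388609) (.focus 0 (.sym [[3], [5]] (.cons [] 1 0 (.focus 9 (.xor 6 1 (.focus 0 (.focus 3 (.focus 6 (.sym [[5], [9]] (.cons [] 1 0 (.base (nat_lit 8241104) (.and 0 12 (.dead 0))) (.cons [3] 2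 0 (.base (nat_lit 8241104) (.and 0 12 (.dead 0))) (.cons [1] 2 0 (.base (nat_lit 8241104) (.and 0 12 (.dead 0))) (.cons [8, 4] 1 0 (.base (nat_lit 8241104) (.and 0 12 (.dead 0))) .nil)))))))))) .nil)))))))) (.cons [5, 3] 1 0 (.focus 6 (.focus 2 (.xor 3 0 (.focus 0 (.base (nat_lit 8388609) (.focus 0 (.sym [[9], [7]] (.cons [] 1 0 (.focus 9 (.xor 6 1 (.focus 0 (.focus 3 (.focus 6 (.sym [[9]] (.cons [] 2 0 (.base (nat_lit 8241104) (.and 0 12 (.dead 0))) (.cons [4] 2 0 (.xor 8 11 (.focus 0 (.cons [1] 0 0 (.base (nat_lit 294976) (.and 0 14 (.dead 0))) (.cons [2] 0 0 (.focus 13 (.focus 3 (.focus 6 (.focus 9 (.xor 10 2 (.focus 0 (.base (nat_lit 147488) (.focus 0 (.cons [] 0 0 (.base (nat_lit 32768) (.and 0 17 (.dead0 0))) (.cons [2] 0 0 (.base (nat_lit 64) (.and 0 17 (.dead0 0))) (.cons [1] 0 0 (.base (nat_lit 1024) (.and 0 17 (.dead0 0))) .nil))))))))))) (.cons [1, 5] 0 0 (.base (nat_lit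 294976) (.and 0 14 (.dead 0))) (.cons [3, 2] 0 0 (.base (nat_lit 294976) (.and 0 14 (.dead 0))) (.cons [5, 2] 0 0 (.base (nat_lit 294976) (.and 0 14 (.dead 0))) (.cons [3, 1] 0 0 (.base (nat_lit 294976) (.and 0 14 (.dead 0))) (.cons [1, 3] 0 0 (.base (nat_lit 294976) (.and 0 14 (.dead 0))) (.cons [2, 5] 0 0 (.base (nat_lit 294976) (.and 0 14 (.dead 0))) (.cons [6, 1] 0 0 (.base (nat_lit 2097920) (.and 0 14 (.dead0 0))) .nil))))))))))) (.cons [3, 3] 2 0 (.base (nat_lit 8241104) (.and 0 12 (.dead 0))) (.cons [4, 4] 0 0 (.base (nat_lit 8241104) (.and 0 12 (.dead 0))) (.cons [5, 3, 1] 0 0 (.xor 8 11 (.focus 0 (.sym [[9]] (.cons [] 2 0 (.base (nat_lit 294976) (.and 0 14 (.dead 0))) (.cons [6] 2 0 (.base (nat_lit 294976) (.and 0 14 (.dead 0))) (.cons [1] 2 0 (.base (nat_lit 294976) (.and 0 14 (.dead 0))) .nil)))))) .nil))))))))))) .nil)))))))) .nil)))))))))))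
noncomputable def T15 : Tr := (.op 0 0 (.focus 0 (.base (nat_lit 8388606) (.focus 0 (.sym [[1], [3]] (.cons [] 4 12 T15_1 (.cons [4, 1] 0 0 (.focus 2 (.op 2 0 (.xor 0 1 (.focus 0 (.base (nat_lit 8388604) (.focus 0 (.sym [[1], [3]] (.cons [] 3 0 (.focus 6 (.focus 2 (.xor 3 0 (.focus 0 (.base (nat_lit 8388609) (.focus 0 (.sym [[11], [13], [15]] (.cons [] 1 0 (.focus 9 (.xor 6 1 (.focus 0 (.focus 3 (.focus 6 (.sym [[17], [19]] (.cons [] 1 0 (.base (nat_lit 8241104) (.and 0 12 (.dead 0))) (.cons [1] 2 0 (.base (nat_lit 8241104) (.and 0 12 (.dead 0))) (.cons [8, 3] 2 0 (.base (nat_lit 8241104) (.and 0 12 (.dead 0))) (.cons [3, 1] 1 0 (.base (nat_lit 8241104) (.and 0 12 (.dead 0))) .nil)))))))))) .nil)))))))) .nil)))))))) .nil)))))))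
noncomputable def T15K : List (List ℕ) := [[1, 6, 1, 5, 4, 1, 1, 1], [7, 6, 3, 2, 5, 1, 5, 4, 2, 6, 3], [2, 2, 5, 2, 5, 5, 1, 6, 1, 1], [7, 5, 4, 2, 5, 2, 5, 3, 2, 6, 1, 5], [3, 1, 6, 1, 3, 6, 2, 6, 2, 3], [7, 6, 1, 6, 4, 2, 5, 4, 1, 6, 2, 3, 1], [5, 2, 4, 5, 1, 1, 6, 1, 5, 5, 4], [5, 1, 1, 5, 1, 5, 1, 6, 2, 4, 1], [2, 2, 6, 3, 2, 6, 2, 2, 6, 4, 2], [6, 2, 6, 4, 2, 5, 1, 4, 2]]
noncomputable def T15F : List (List ℕ) := [[]]
noncomputable def pc3 : List (List ℕ × List (List ℕ)) := [([], [[1, 3, 3], [3]]), ([], [[1]]), ([], [])]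

/-- equality of words in the generators of the Sylow group -/
noncomputable def eq3 (u w : List ℕ) : Bool := sameW nQ 24 5 (subst W3 u) (subst W3 w)

/-- inequality -/
noncomputable def ne3 (u w : List ℕ) : Bool := difW nQ 24 5 (subst W3 u) (subst W3 w)

theorem chk_pc3 : pcOK eq3 3 [[1], [3], [5]] pc3 = true := by decide +kernel

theorem chk_ex3 : pcAll 3 (fun w => eq3 (wpow w 3) []) [[1], [3], [5]] = true := by decide +kernel

theorem chk_ce3 : cenOK eq3 ne3 3 [[1], [3], [5]] [[1], [3]] [[], [5], [5, 5]] = true := by decide +kernel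

theorem chk_U3 : ∀ i < 3, lowW 19 (nth [] W3 i) = true ∧
    evW (am 12) (mo 12) (nth (mo 12) LF) (nth [] U3 i) = eC (nth [] W3 i) := by decide +kernel

theorem chk_uN : ∀ i < 2, lowW 4 (nth [] wN i) = true ∧ ∀ j < 3, lowW 19 (subst W3 (nth [] (nth [] uN i) j)) = true ∧
    am 12 (eC (nth [] W3 j)) (evW (am 12) (mo 12) (nth (mo 12) LF) (nth [] wN i)) =
      am 12 (evW (am 12) (mo 12) (nth (mo 12) LF) (nth [] wN i)) (eC (subst W3 (nth [] (nth [] uN i) j))) := by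
  decide +kernel

theorem chk_cN : chainOK nA 24 cN = true ∧ chainProd nA 24 cN = 144 ∧ cgens cN = lmap (subst wN) usN := by
  decide +kernel

theorem chk_T15 : Bt.stdOK nA 24 5 cA [] [] [m15] [m15] T15F T15K T15 144 = true := by decide +kernel

theorem chk_m15 : ∀ j < 24, m15.testBit j = true → ∃ u ∈ [[1], [3], [1, 3], [1, 3, 3]],
    sameW nA 24 5 (subst U3 u) [] = false ∧ fixW nA j (subst U3 u) = true := by decide +kernel

theorem chk_m9 : pcAll 3 (fun u => Bool.rec (allFrom (fun j => Bool.rec (Bool.rec true false (fixW nA j (subst U3 u)))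
    true (tb m15 j)) 0 24) true (sameW nA 24 5 (subst U3 u) [])) [[1], [3], [5]] = true := by decide +kernel

end CF.J4
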