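import Cfsg.Agent.J4.WD
import Cfsg.Agent.J4.JC
import Cfsg.Agent.Held.Rels

/-! Checks for the self-centralizing elementary abelian subgroup of order `2 ^ 10`. -/

set_option autoImplicit false
set_option maxRecDepth 1000000

namespace CF.J4
open CF.Comp CF.Dce

/-- the code in `N(V)` of an element of `A` -/
noncomputable def psA (c : ℕ) : ℕ := chiC (am 11) (mo 11) (nth 0 LPs) 10 c

theorem psA_eq (c : ℕ) : psA c = chiC (am 11) (mo 11) (nth 0 LPs) 10 c := rfl

/-- the code in `C(z)` of an element of `A` -/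
noncomputable def thW (c : ℕ) : ℕ := chiC (am 12) (mo 12) (nth 0 LTh) 10 c

theorem thW_eq (c : ℕ) : thW c = chiC (am 12) (mo 12) (nth 0 LTh) 10 c := rfl

attribute [irreducible] psA thW

theorem chk_w0 : allBin (fun c => imp (Nat.beq (psA c) (mo 11)) (Nat.beq c 0)) 1024 10 0 = true := by decide +kernel

/-- the action on `A` of an element of `N(V)` -/
noncomputable def acOK (y Y : ℕ) : Bool :=
  allFrom (fun i => Nat.beq (am 11 (psA (Nat.pow 2 i)) y) (am 11 y (psA (fld 10 Y i)))) 0 10

theorem chk_w1 : allFrom (fun i => acOK (nth (mo 11) LG7 (Nat.succ (Nat.mul 2 i)))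
    (nth (mo 10) (LA8.take 15) (Nat.succ (Nat.mul 2 i)))) 0 7 = true := by decide +kernel

/-- the matrix of the last generator -/
noncomputable def Y7 : ℕ := nth (mo 10) LA8 15

theorem chk_w2 : force (evW (am 12) (mo 12) (nth (mo 12) LF) wY4) (fun y => allFrom (fun i =>
    Nat.beq (am 12 (thW (Nat.pow 2 i)) y) (am 12 y (thW (fld 10 Y7 i)))) 0 10) = true := by decide +kernel

/-- image under a word -/
noncomputable def vw7 (c : ℕ) (w : List ℕ) : ℕ := vm 10 c (evW (mm 10) (mo 10) (nth (mo 10) (LA8.take 15)) w)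

theorem chk_w3 : ∀ i < 10, nth 0 (nth [] (nth [] tyC i) 0) 0 ∈ [1, 448] ∧ nth 0 (nth [] (nth [] tyC i) 0) 1 ∈ [0, 8, 450] ∧
    vw7 (nth 0 (nth [] (nth [] tyC i) 0) 0) (nth [] (nth [] tyC i) 1) = fld 10 GCm i ∧
    vw7 (nth 0 (nth [] (nth [] tyC i) 0) 1) (nth [] (nth [] tyC i) 2) = vm 10 (fld 10 GCm i) Y7 ^^^ 1 := by
  decide +kernel

theorem chk_w4 : lall (fun r => Nat.beq (evW (mm 10) (mo 10) (nth (mo 10) LA8) r) (mo 10)) Held.RL = true := by
  decide +kernel

theorem chk_w5 : lall (fun r => Nat.beq (evW (am 11) (mo 11) (nth (mo 11) LG7) r) (mo 11)) Held.RT = true := by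
  decide +kernel

theorem chk_w6 : linOK 10 1024 nL8 (nth (mo 10) LA8) = true := by decide +kernel

theorem chk_w7 : orb nL8 ss8 4 (Nat.shiftLeft (nat_lit 1) 1) = m155 ∧ orb nL8 ss8 3 (Nat.shiftLeft (nat_lit 1) 8) = m868 ∧
    orb nL8 (ss8.take 7) 2 (Nat.shiftLeft (nat_lit 1) 8) = m28 := by decide +kernel

theorem chk_w8 : allBin (fun c => Bool.rec (Bool.rec (Nat.beq c 0) true (tb m868 c)) true (tb m155 c)) 1024 10 0 = true := by
  decide +kernel

/-- the code lies in `A ⊓ V` -/
noncomputable def inCV (c : ℕ) : Bool := force (vm 11 c CIm) fun d => Bool.rec false (Nat.beq (psA d) (tl 11 c)) (Nat.ble d 63)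

theorem chk_w9 : allBin (fun c => imp (allFrom (fun i => Nat.beq (vm 11 c (nth 0 LPs i)) c) 6 4) (inCV c))
    2048 11 0 = true := by decide +kernel

theorem chk_w10 : allFrom (fun i => allBin (fun c => imp (Nat.beq (vm 11 c (nth 0 LPs (Nat.add 6 i))) c)
    (Bool.rec (inCV (Nat.xor c (nth 0 eL4 i))) true (inCV c))) 2048 11 0) 0 4 = true := by decide +kernel

/-- the single letters -/
def ss10 : List (List ℕ) := [[1], [3], [5], [7], [9], [11], [13], [15], [17], [19]]

theorem chk_w11 : pcM 11 (nth (mo 11) LSy)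
    (fun u => imp (Nat.beq (mm 11 u u) (mo 11)) (lany (Nat.beq u) L192)) ss10 = true := by decide +kernel

/-- triangular search for large commuting families -/
noncomputable def tri (n N c d : ℕ) : ℕ → ℕ → List (ℕ × ℕ) → Bool :=
  Nat.rec (motive := fun _ => ℕ → ℕ → List (ℕ × ℕ) → Bool) (fun b _ L => Nat.ble (llen L) b)
    (fun _ ih b F L => List.rec (motive := fun _ => Bool) true (fun y t r => Bool.rec
      (Bool.rec false (Bool.rec false r (force (Nat.land y.2 F) fun F' => forceP (cnds2 n N c F' y t)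
        (force (Nat.pred b) fun b' => ih b' F'))) (Nat.ble 1 b)) true (Nat.ble (Nat.succ (llen t)) b)) L) d

/-- the search for offenders -/
noncomputable def ofW (m : ℕ) : Bool := forceP (withFix 11 2048 L192) fun L =>
  force (Bool.rec (Nat.pow 2 m) 0 (Nat.beq m 3)) fun c => forceP (cnds2 11 2048 c (full 2048) (mo 11, fixM 11 2048 (mo 11)) L)
    (tri 11 2048 c 4 (Nat.div 1023 (Nat.pow 2 m)) (full 2048))

theorem chk_o3 : ofW 3 = true := by decide +kernel
theorem chk_o4 : ofW 4 = true := by decide +kernel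
theorem chk_o5 : ofW 5 = true := by decide +kernel
theorem chk_o7 : ofW 7 = true := by decide +kernel
theorem chk_o8 : ofW 8 = true := by decide +kernel
theorem chk_o9 : ofW 9 = true := by decide +kernel

theorem chk_o6 : forceP (withFix 11 2048 L192) (fun L => lall (fun y => Bool.rec
    (ofd 11 2048 64 15 0 y.2 (cnds2 11 2048 64 y.2 y L)) true (lany (fun k => Nat.beq y.1 (psA (Nat.mul 64 k)))
      [0, 1, 2, 3, 4, 5, 6, 7, 8, 9, 10, 11, 12, 13, 14, 15])) L) = true := by decide +kernel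

end CF.J4
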