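import Cfsg.Agent.J4.T
import Cfsg.Agent.J4.WC
import Cfsg.Agent.Held.Mod

/-! The self-centralizing elementary abelian subgroup of order `2 ^ 10`. -/

set_option autoImplicit false
set_option maxRecDepth 1000000
set_option linter.unusedSectionVars false

namespace CF.J4
open Cfsg Subgroup CF.Loc CF.Even CF.LX CF.Comp CF.Dce CF.Comp.Mat CF.Dce.J4
open CF.Leech (pt ofMask idx toMask)
open scoped Pointwise

variable {G : Type*} [Group G]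

theorem t10 : (0 : ℕ) < 10 := by norm_num

/-- exact codes in `N(V)` -/
def Ps (V : Subgroup G) (ν : G → ℕ) (κ : Equiv.Perm GolayPt → G) (g : G) (x : ℕ) : Prop :=
  ∃ ρ ∈ M24, Lm ρ x ∧ ∃ v ∈ V, g = κ ρ * v ∧ ν v = tr 11 x

/-- the basis of `A` -/
noncomputable def aW (V : Subgroup G) (ν : G → ℕ) (κ : Equiv.Perm GolayPt → G) (i : ℕ) : G :=
  if i < 6 then vc V ν (nth 0 cvb i) else kq κ (nth [] wq4 (i - 6))

/-- coordinates on `A` -/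
structure CA (V : Subgroup G) (ν : G → ℕ) (κ : Equiv.Perm GolayPt → G) (A : Subgroup G) (μ : G → ℕ) : Prop where
  co : Co 10 A ⊥ μ
  ch : ∀ c < 2 ^ 10, chi (aW V ν κ) 10 c ∈ A ∧ μ (chi (aW V ν κ) 10 c) = c

/-- generators of `N(A) ⊓ N(V)` modulo `A` -/
noncomputable def g7 (V : Subgroup G) (ν : G → ℕ) (κ : Equiv.Perm GolayPt → G) (i : ℕ) : G :=
  kq κ (nth [] wG7 i) * vc V ν (nth 0 cG7 i)

theorem lt_tr11 {x : ℕ} (h : tr 11 x < 2048) : x < 2 ^ (11 * (11 + 1)) := by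
  rw [tr_eq, Nat.shiftRight_eq_div_pow, Nat.div_lt_iff_lt_mul (Nat.two_pow_pos _)] at h
  exact h.trans_le (by norm_num)

theorem lm_q {i : ℕ} (hi : i < 4) : ev (el nQ) (nth [] wq4 i) = φB i := by
  have := lm_of rB ((by decide +kernel : ∀ i < 4, lmOK nB [2 * i + 1] (eQ (nth [] wq4 i)) = true) i hi)
  rw [ev_single] at this
  exact (lm_cd.ev tbQ _).uniq this fun _ _ => rfl

namespace JK
variable [Finite G] {E : Subgroup G} {z p : G} {Φ : G → Equiv.Perm GolayPt} {π : G → ℕ} {f : ℕ → G}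
  {V : Subgroup G} {ν : G → ℕ} {κ : Equiv.Perm GolayPt → G} (h : JK E z p Φ π f V ν κ)
include h

local notation "Θ" => Th E z p π
local notation "k" => kq κ
local notation "ϖ" => pm24 V ν
local notation "Ψ" => Ps V ν κ
local notation "χ" => chi (aW V ν κ) 10

theorem ac_lm {ρ : Equiv.Perm GolayPt} {x : ℕ} (h1 : ρ ∈ M24) (h2 : Lm ρ x) : Ac 11 V ν (κ ρ) x :=
  h.ac_of (h.sp.mem ρ h1) ((h.sp.pi ρ h1).symm ▸ h2)

theorem ps_cd : Cd (am 11) (mo 11) (fun _ => true) Ψ where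
  one' := ⟨1, one_mem _, lm_cd.one', 1, one_mem _, by rw [h.sp.hom.one, mul_one], by
    rw [h.co.one, tr_of_lt (mo_lt t11)]⟩
  mul' := by
    rintro - - x y ⟨c, a1, a3, e, a2, rfl, a4⟩ ⟨d, b1, b3, u, b2, rfl, b4⟩
    have e1 := h.ac_lm b1 b3
    exact ⟨c * d, mul_mem a1 b1, fun a => by rw [vm_am t11, ← vm_mm t11]; exact lm_cd.mul' a3 b3 a,
      (κ d)⁻¹ * e * κ d * u, mul_mem (norm_mem e1.1 a2) b2, by rw [h.sp.hom c a1 d b1]; group,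
      by rw [h.co.mul _ (norm_mem e1.1 a2) _ b2, e1.2 _ a2, a4, b4, tr_am t11]⟩
  inv' := by
    rintro - x y ⟨c, a1, a3, e, a2, rfl, a4⟩ - l
    have e0 : Lm c⁻¹ y := lm_cd.inv' a3 rfl (mat_ext t11 (mm_lt t11 _ _) (mo_lt t11) fun v _ => by
      rw [vm_mm t11, ← vm_am t11, l])
    have e1 := h.ac_lm (inv_mem a1) e0
    refine ⟨c⁻¹, inv_mem a1, e0, (κ c⁻¹)⁻¹ * e⁻¹ * κ c⁻¹, norm_mem e1.1 (inv_mem a2), by
      rw [h.sp.hom.inv a1]; group, ?_⟩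
    rw [e1.2 _ (inv_mem a2), h.co.inv a2, a4]
    exact Nat.eq_of_xor_eq_zero (by rw [← tr_am t11, l, tr_of_lt (mo_lt t11)])

variable {g u : G} {x y : ℕ}

theorem ps_ac (hx : Ψ g x) : Ac 11 V ν g x := by
  obtain ⟨c, a1, a3, e, a2, rfl, -⟩ := hx
  exact h.co.congr (h.co.cd.mul' (h.ac_lm a1 a3) (h.co.ac_self a2)) fun _ _ => by
    rw [vm_mm t11, vm_mo t11 (vm_lt _ _ _)]

theorem ps_eq (hx : Ψ g x) (hy : Ψ u x) : g = u := by
  obtain ⟨c, -, a3, e, a2, rfl, a4⟩ := hx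
  obtain ⟨d, -, b3, w, b2, rfl, b4⟩ := hy
  rw [a3.uniq b3 fun _ _ => rfl, h.co.ext a2 b2 (a4.trans b4.symm)]

theorem ps_uniq (hx : Ψ g x) (hy : Ψ g y) : x = y := by
  have e1 := fun c => h.co.uniq (c := c) (h.ps_ac hx) (h.ps_ac hy)
  obtain ⟨c, -, a3, e, a2, rfl, a4⟩ := hx
  obtain ⟨d, -, b3, w, b2, e2, b4⟩ := hy
  rw [a3.uniq b3 e1, mul_right_inj] at e2
  exact aff_ext t11 (lt_tr11 (a4 ▸ h.lt a2)) (lt_tr11 (b4 ▸ h.lt b2)) e1 (by rw [← a4, ← b4, e2])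

theorem ps_k {ρ : Equiv.Perm GolayPt} (h1 : ρ ∈ M24) (h2 : Lm ρ x) (h3 : tr 11 x = 0) : Ψ (κ ρ) x :=
  ⟨ρ, h1, h2, 1, one_mem _, (mul_one _).symm, h.co.one.trans h3.symm⟩

theorem ps_w (w : List ℕ) : Ψ (k w) (eQ w) := h.ps_k (evQ_mem w) (lm_cd.ev tbQ w) (tr_of_lt (evW_lt t11
  (fun x => (nth_mem_or (mo 11) LQ x).elim ((by decide +kernel : ∀ y ∈ LQ, y < 2 ^ (11 * 11)) _)
    fun e => e.symm ▸ mo_lt t11) w))

theorem ps_v (hv : g ∈ V) : Ψ g (tl 11 (ν g)) :=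
  ⟨1, one_mem _, fun a => by rw [vm_tl t11 (τ_lt a), ← vm_mo t11 (τ_lt a)]; exact lm_cd.one' a, g, hv, by
    rw [h.sp.hom.one, one_mul], (tr_tl t11 _).symm⟩

theorem ps_vc {c : ℕ} (hc : c < 2048) : Ψ (vc V ν c) (tl 11 c) := by
  have := h.ps_v (h.co.vc hc).1
  rwa [(h.co.vc hc).2] at this

theorem ps_cj {a c : G} {x' : ℕ} (h1 : Ψ g y) (h2 : Ψ a x) (h3 : Ψ c x') (e : am 11 x y = am 11 y x') :
    g⁻¹ * a * g = c := by
  rw [mul_assoc, h.ps_eq (h.ps_cd.mul' h2 h1) (e ▸ h.ps_cd.mul' h1 h3), inv_mul_cancel_left]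

theorem ps_a {i : ℕ} (hi : i < 10) : Ψ (aW V ν κ i) (nth 0 LPs i) := by
  rw [aW]; split_ifs with h1
  · have : ∀ i < 6, nth 0 cvb i < 2048 ∧ tl 11 (nth 0 cvb i) = nth 0 LPs i := by decide +kernel
    exact (this i h1).2 ▸ h.ps_vc (this i h1).1
  · exact (by decide +kernel : ∀ i < 10, ¬ i < 6 → eQ (nth [] wq4 (i - 6)) = nth 0 LPs i) i hi h1 ▸ h.ps_w _

theorem th_a {i : ℕ} (hi : i < 10) : Θ (aW V ν κ i) (nth 0 LTh i) := by
  rw [aW]; split_ifs with h1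
  · have : ∀ i < 6, nth 0 cvb i < 2048 ∧ thV (nth 0 cvb i) = nth 0 LTh i := by decide +kernel
    have e := h.co.vc (this i h1).1
    have e1 := h.th _ e.1
    rwa [e.2, (this i h1).2] at e1
  · have : ∀ i < 10, ¬ i < 6 → lowW 19 (nth [] wq4 (i - 6)) = true ∧ eC (nth [] wq4 (i - 6)) = nth 0 LTh i := by
      decide +kernel
    exact (this i hi h1).2 ▸ h.k_th (this i hi h1).1

theorem ps_chi (c : ℕ) : Ψ (χ c) (psA c) := psA_eq c ▸ h.ps_cd.chi (fun _ => h.ps_a) c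

theorem th_chi (c : ℕ) : Θ (χ c) (thW c) := thW_eq c ▸ h.cd.chi (fun _ => h.th_a) c

theorem ex_ca : ∃ A μ, CA V ν κ A μ := by
  have e : ∀ i < 10, am 11 (nth 0 LPs i) (nth 0 LPs i) = mo 11 ∧
      ∀ j < 10, am 11 (nth 0 LPs i) (nth 0 LPs j) = am 11 (nth 0 LPs j) (nth 0 LPs i) := by decide +kernel
  obtain ⟨A, μ, h1, h2⟩ := exists_co (g := aW V ν κ) t10
    (fun i hi => h.ps_eq (h.ps_cd.mul' (h.ps_a hi) (h.ps_a hi)) ((e i hi).1 ▸ h.ps_cd.one'))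
    (fun i hi j hj => h.ps_eq (h.ps_cd.mul' (h.ps_a hi) (h.ps_a hj))
      ((e i hi).2 j hj ▸ h.ps_cd.mul' (h.ps_a hj) (h.ps_a hi)))
    fun c hc e => beq_iff.1 (imp_iff.1 (allBin_spec chk_w0 (by norm_num) c hc)
      (beq_iff.2 (h.ps_uniq (h.ps_chi c) (e ▸ h.ps_cd.one'))))
  exact ⟨A, μ, h1, h2⟩

theorem chi_z : χ 1 = z := (chi_pow _ t10).trans (h.vc_eq h.zV h.νz)

theorem k_wsA {j : ℕ} (hj : j < 16) : κ (ev φB (nth [] wsA j)) = χ (64 * j) := by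
  have : ∀ j < 16, lmOK nB (nth [] wsA j) (psA (64 * j)) = true ∧ tr 11 (psA (64 * j)) = 0 := by decide +kernel
  exact h.ps_eq (h.ps_k (ev_mem (fun i => (φB_mem i).1) _) (lm_of rB (this j hj).1) (this j hj).2) (h.ps_chi _)

theorem tb7 : Tb Ψ (g7 V ν κ) (nth (mo 11) LG7) := h.ps_cd.tb (m := 7) (by decide +kernel) (fun i hi => by
    have : ∀ i < 7, nth 0 cG7 i < 2048 ∧ am 11 (eQ (nth [] wG7 i)) (tl 11 (nth 0 cG7 i)) =
      nth (mo 11) LG7 (2 * i + 1) := by decide +kernel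
    exact (this i hi).2 ▸ h.ps_cd.mul' (h.ps_w _) (h.ps_vc (this i hi).1)) fun i hi => by
  rw [g7, nth_of_le _ (le_trans (by decide +kernel) hi), nth_of_le _ (le_trans (by decide +kernel) hi), h.k_nil,
    h.vc_eq (one_mem V) h.co.one, mul_one]

variable {A : Subgroup G} {μ : G → ℕ} (C : CA V ν κ A μ)
include C

theorem chi_mu (ha : g ∈ A) : χ (μ g) = g :=
  C.co.ext (C.ch _ (C.co.lt g ha)).1 ha (C.ch _ (C.co.lt g ha)).2

theorem mem_ps {c : ℕ} (hc : c < 1024) (hg : Ψ g (psA c)) : g ∈ A := h.ps_eq (h.ps_chi c) hg ▸ (C.ch c hc).1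

theorem acA (hg : Ψ g y) {Y : ℕ} (e : acOK y Y = true) : Ac 10 A μ g Y := C.co.ac_of fun i hi a ha e1 => by
  rw [← h.chi_mu C ha, e1, h.ps_cj hg (h.ps_chi (2 ^ i)) (h.ps_chi _) (beq_iff.1 (allFrom_zero.1 e i hi))]
  exact C.ch _ (fld_lt _ _ _)

theorem zA : z ∈ A ∧ μ z = 1 := h.chi_z ▸ C.ch 1 (by norm_num)

theorem cv_mem (hv : g ∈ V) (e : inCV (ν g) = true) : g ∈ A ∧ ∀ a ∈ A, g * a = a * g := by
  rw [inCV, force_eq, brec_and, ble_iff, beq_iff] at e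
  have := h.mem_ps C (by omega) (e.2 ▸ h.ps_v hv)
  exact ⟨this, fun a ha => C.co.comm this ha⟩

theorem A_M : A ≤ 𝐍(V) := fun _ ha => (h.ps_ac (h.chi_mu C ha ▸ h.ps_chi _)).1

theorem pi_fix (ha : g ∈ A) {q : GolayPt} (hq : q ∈ ofMask 8536111) : ϖ g q = q := by
  refine (h.pi_hom.mem_pre.1 (C.co.le_of (K := h.pi_hom.pre (MulAction.stabilizer _ q))
    (fun i hi a ha e => h.pi_hom.mem_pre.2 ⟨h.A_M C ha, ?_⟩) ha)).2
  rw [← h.chi_mu C ha, e, chi_pow _ hi, aW]; split_ifs with h1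
  · rw [h.pi_V (h.co.vc ((by decide +kernel : ∀ i < 6, nth 0 cvb i < 2 ^ 11) i h1)).1]; exact one_mem _
  · rw [h.k_pi, lm_q (by omega)]; exact fix_oO (by omega) hq

theorem oct (h1 : g ∈ 𝐍(A)) (h2 : g ∈ 𝐍(V)) : ϖ g ∈ stabIn M24 (ofMask 8536111) := by
  refine mem_stabIn.2 ⟨h.pi_mem h2, Finset.eq_of_subset_of_card_le (fun x hx => ?_) (Finset.card_smul_finset _ _).ge⟩
  obtain ⟨q, hq, rfl⟩ := Finset.mem_smul_finset.1 hx
  refine mem_oO_of ?_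
  have e := C.ch (2 ^ 6) (by norm_num)
  have := h.pi_fix C (norm_mem h1 e.1) hq
  rw [h.pi_hom.conj' h2 (h.A_M C e.1), chi_pow _ (by norm_num), aW, if_neg (by norm_num), h.k_pi, lm_q (by norm_num),
    mul_assoc, Equiv.Perm.mul_apply, Equiv.Perm.inv_eq_iff_eq] at this
  exact this

theorem dA : χ 8 ∈ V ∧ ν (χ 8) = 36 := by
  rw [show (8 : ℕ) = 2 ^ 3 from rfl, chi_pow _ (by norm_num), aW, if_pos (by norm_num)]
  exact h.co.vc (c := 36) (by norm_num)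

theorem cent_dA : 𝐂₁(χ 8) ≤ 𝐍(V) := h.cent_d (h.dA C).1 (by rw [(h.dA C).2]; decide +kernel)

theorem cent_A : 𝐂(A) ≤ A := fun g hg => by
  have cM : 𝐂(A) ≤ 𝐍(V) := fun g hg => h.cent_dA C (mem_c1.2
    (mem_centralizer_iff.1 hg _ (C.ch 8 (by norm_num)).1).symm)
  have h1 := (mem_stabIn.1 (h.oct C (centralizer_le_normalizer _ hg) (cM hg))).2
  have h4 : pt 4 ∉ ofMask 8536111 := by rw [mem_oO (by norm_num)]; decide
  have kA : ∀ j < 16, κ (ev φB (nth [] wsA j)) ∈ A ∧ ϖ (κ (ev φB (nth [] wsA j))) = ev φB (nth [] wsA j) :=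
    fun j hj => ⟨h.k_wsA hj ▸ (C.ch _ (by omega)).1, h.sp.pi _ (ev_mem (fun i => (φB_mem i).1) _)⟩
  obtain ⟨j, hj, e⟩ := reg16 (q := ϖ g (pt 4)) fun hq => h4 (by
    rw [← h1] at hq; exact Finset.smul_mem_smul_finset_iff (ϖ g) |>.1 hq)
  have h2 := kA j hj
  refine (A.mul_mem_cancel_left (inv_mem h2.1)).1 ?_
  have h3 : _ ∈ 𝐂(A) := mul_mem (inv_mem (mem_centralizer_iff.2 fun a ha => C.co.comm ha h2.1)) hg
  generalize hx : (κ (ev φB (nth [] wsA j)))⁻¹ * g = x at h3 ⊢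
  have h5 : ϖ x (pt 4) = pt 4 := by
    rw [← hx, h.pi_hom _ (inv_mem (h.A_M C h2.1)) _ (cM hg), h.pi_hom.inv (h.A_M C h2.1), h2.2, Equiv.Perm.mul_apply,
      ← e, Equiv.Perm.inv_eq_iff_eq]
  have h6 := h.pi_ker (cM h3) (eq_one16 (h.pi_mem (cM h3)) fun q hq => by
    obtain ⟨j, hj, rfl⟩ := reg16 hq
    have h6 := kA j hj
    rw [← h6.2, ← Equiv.Perm.mul_apply, ← h.pi_hom _ (cM h3) _ (h.A_M C h6.1), ← mem_centralizer_iff.1 h3 _ h6.1,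
      h.pi_hom _ (h.A_M C h6.1) _ (cM h3), Equiv.Perm.mul_apply, h5])
  refine (h.cv_mem C h6 (imp_iff.1 (allBin_spec chk_w9 (by norm_num) _ (h.lt h6))
    (allFrom_iff.2 fun i hi => beq_iff.2 ?_))).1
  have l : 6 + i < 10 := by omega
  rw [← (h.ps_ac (h.ps_a l)).2 x h6, mul_assoc, ← mem_centralizer_iff.1 h3 _
    (chi_pow (aW V ν κ) l ▸ (C.ch _ (Nat.pow_lt_pow_right one_lt_two l)).1), inv_mul_cancel_left]

theorem card_A : Nat.card A = 2 ^ 10 := by rw [C.co.card, card_bot, mul_one]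

theorem tbA7 : Tb (Ac 10 A μ) (g7 V ν κ) (nth (mo 10) (LA8.take 15)) :=
  C.co.cd.tb (m := 7) (by decide +kernel) (fun i hi => h.acA C (h.tb7.odd i) (allFrom_zero.1 chk_w1 i hi))
    fun i hi => h.ps_eq (h.tb7.odd i) ((nth_of_le (mo 11) (l := LG7) (le_trans (by decide +kernel)
      (show 15 ≤ 2 * i + 1 by omega))).symm ▸ h.ps_cd.one')

theorem cj_ac {Y c : ℕ} (hg : Ac 10 A μ g Y) (hc : c < 1024) : g⁻¹ * χ c * g = χ (vm 10 c Y) := by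
  rw [← h.chi_mu C (norm_mem hg.1 (C.ch c hc).1), hg.2 _ (C.ch c hc).1, (C.ch c hc).2]

theorem cj_w7 {c : ℕ} (hc : c < 1024) (w : List ℕ) : IsConj (χ c) (χ (vw7 c w)) := by
  rw [vw7, ← h.cj_ac C (C.co.cd.ev (h.tbA7 C) w) hc]; exact isConj_cj _ _

theorem nz8 : ¬ IsConj z (χ 8) := ((h.dt (h.dA C).1).1 (by rw [(h.dA C).2]; decide +kernel)).2

theorem ty_z {c : ℕ} (hc : c ∈ [1, 448]) : IsConj z (χ c) := by
  simp only [List.mem_cons, List.not_mem_nil, or_false] at hc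
  rcases hc with rfl | rfl
  · rw [h.chi_z]
  · rw [h.ps_eq (h.ps_chi 448) ((by decide +kernel : eQ [29, 31, 35, 37] = psA 448) ▸ h.ps_w _),
      ← h.st_k (c := 54) (u := 17) (by decide +kernel)]
    exact (h.st_z (by norm_num)).2 (by decide +kernel)

theorem ty_d {c : ℕ} (hc : c ∈ [0, 8, 450]) : ¬ IsConj z (χ c) := by
  simp only [List.mem_cons, List.not_mem_nil, or_false] at hc
  rcases hc with rfl | rfl | rfl
  · rw [chi_zero, isConj_one_left]; exact h.z_ne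
  · exact h.nz8 C
  · obtain ⟨j, -, e⟩ := h.memE ((by decide +kernel : thW 450 = tl 12 3463) ▸ h.th_chi 450)
    refine h.E_d (e ▸ mul_mem (h.sE (by norm_num)) (pow_mem h.mem j)) ?_
    rw [e, h.fr.mul_zp (h.sE (by norm_num)), h.sπ (by norm_num)]; decide +kernel

theorem ac7 : Ac 10 A μ (ev (FF E π p f) wY4) Y7 := by
  have h1 := h.cd.ev h.tbF wY4
  have h2 := chk_w2
  rw [force_eq, allFrom_zero] at h2
  generalize ev (FF E π p f) wY4 = g at h1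
  have zp : ∀ j < 2, z ^ j ∈ A ∧ μ (z ^ j) = j := fun j hj => by
    obtain rfl | rfl : j = 0 ∨ j = 1 := by omega
    exacts [⟨by rw [pow_zero]; exact one_mem _, by rw [pow_zero, C.co.one]⟩, by rw [pow_one]; exact h.zA C]
  have h3 : ∀ i < 10, ∀ a ∈ A, μ a = 2 ^ i → g⁻¹ * a * g ∈ A ∧ ∃ j < 2, μ (g⁻¹ * a * g) = fld 10 Y7 i ^^^ j :=
    fun i hi a ha e => by
      obtain ⟨j, hj, e1⟩ := h.cj_th h1 (h.th_chi (2 ^ i)) (h.th_chi _) (beq_iff.1 (h2 i hi))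
      have e2 := C.ch _ (fld_lt 10 Y7 i)
      rw [← h.chi_mu C ha, e, e1]
      exact ⟨mul_mem e2.1 (zp j hj).1, j, hj, by rw [C.co.mul _ e2.1 _ (zp j hj).1, e2.2, (zp j hj).2]⟩
  obtain ⟨x, -, h4⟩ := C.co.ex (C.co.norm_of fun i hi a ha e => (h3 i hi a ha e).1) (C.co.nbot g)
  have h5 : ∀ c < 2 ^ 10, ∃ j < 2, vm 10 c x = vm 10 c Y7 ^^^ j := xor_ind ⟨0, two_pos, by simp [vm_zero]⟩
    (fun i hi => by
      have e := C.ch _ (Nat.pow_lt_pow_right one_lt_two hi)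
      obtain ⟨-, j, hj, e1⟩ := h3 i hi _ e.1 e.2
      exact ⟨j, hj, by rw [vm_pow hi Y7, ← e1, h4.2 _ e.1, e.2]⟩)
    fun a _ c _ ⟨i, hi, e1⟩ ⟨j, hj, e2⟩ => ⟨i ^^^ j, Nat.xor_lt_two_pow (n := 1) hi hj, by
      rw [vm_xor, vm_xor, e1, e2, xor4]⟩
  have h6 : mm 10 GCm x = mm 10 GCm Y7 := eq_of_fld t10 (mm_lt t10 _ _) (mm_lt t10 _ _) fun i hi => by
    rw [fld_mm t10 hi, fld_mm t10 hi]
    obtain ⟨a1, a2, a3, a4⟩ := chk_w3 i hi
    obtain ⟨j, hj, e⟩ := h5 _ (fld_lt 10 GCm i)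
    obtain rfl | rfl : j = 0 ∨ j = 1 := by omega
    · rw [e, Nat.xor_zero]
    refine (h.ty_d C a2 ?_).elim
    have l1 := (by decide : ∀ c ∈ [1, 448], c < 1024) _ a1
    have l2 := (by decide : ∀ c ∈ [0, 8, 450], c < 1024) _ a2
    have b1 := h.cj_w7 C l1 (nth [] (nth [] tyC i) 1)
    have b2 := h.cj_w7 C l2 (nth [] (nth [] tyC i) 2)
    rw [a4, ← e, ← h.cj_ac C h4 (fld_lt _ _ _), ← a3] at b2
    exact ((h.ty_z C a1).trans (b1.trans (isConj_cj _ _))).trans b2.symm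
  exact C.co.congr h4 fun c hc => by
    rw [← vm_mo t10 hc, ← show mm 10 GCi GCm = mo 10 by decide +kernel, vm_mm t10, ← vm_mm t10 _ GCm, h6, vm_mm t10]

end JK

end CF.J4
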